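import Groth.Agent.FlatOverBC.Quot
import Groth.Agent.FlatLocalDepth.Comp
import Groth.Agent.S2614

/-!
Cohen–Macaulay fibres under base change: the algebra.
-/

set_option autoImplicit false
set_option linter.style.haveILetI false

namespace Groth.Agent.FlatOverBC

open TensorProduct IsLocalRing

universe u

/-- A flat local algebra, surjective on stalks, is a localisation at a prime. -/
theorem nonempty_ringEquiv_localization {T F : Type u} [CommRing T] [CommRing F]
    [IsLocalRing F] (φ : T →+* F) (hfl : φ.Flat) (hs : φ.SurjectiveOnStalks) :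
    Nonempty (Localization.AtPrime ((maximalIdeal F).comap φ) ≃+* F) := by
  let Q := (maximalIdeal F).comap φ
  have hQ : ∀ u : Q.primeCompl, IsUnit (φ u) := fun u => by
    by_contra hu
    exact u.2 hu
  let θ : Localization.AtPrime Q →+* F := IsLocalization.lift hQ
  letI : Algebra T F := φ.toAlgebra
  letI : Algebra (Localization.AtPrime Q) F := θ.toAlgebra
  haveI : IsScalarTower T (Localization.AtPrime Q) F :=
    IsScalarTower.of_algebraMap_eq fun t => (IsLocalization.lift_eq hQ t).symm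
  haveI : Module.Flat (Localization.AtPrime Q) F :=
    (Module.flat_iff_of_isLocalization (Localization.AtPrime Q) Q.primeCompl F).2 hfl
  haveI : IsLocalHom θ := ⟨fun x hx => by
    obtain ⟨a, s, rfl⟩ := IsLocalization.exists_mk'_eq Q.primeCompl x
    refine (IsLocalization.AtPrime.isUnit_mk'_iff _ Q a s).2 fun ha => (ha : φ a ∈ maximalIdeal F) ?_
    have h := IsLocalization.lift_mk'_spec (M := Q.primeCompl) (S := Localization.AtPrime Q)
      (g := φ) (hg := hQ) a (θ (IsLocalization.mk' _ a s)) s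
    rw [h.1 rfl]
    exact (hQ s).mul hx⟩
  haveI : Module.FaithfullyFlat (Localization.AtPrime Q) F :=
    @Module.FaithfullyFlat.of_flat_of_isLocalHom _ _ _ _ _ _ _ _ ‹IsLocalHom θ›
  have hbij : Function.Bijective θ := by
    refine ⟨RingHom.FaithfullyFlat.injective (f := θ)
      (RingHom.faithfullyFlat_algebraMap_iff.2 ‹_›), fun z => ?_⟩
    obtain ⟨t, ht⟩ := hs (maximalIdeal F) inferInstance (algebraMap F _ z)
    obtain ⟨a, s, rfl⟩ := IsLocalization.exists_mk'_eq Q.primeCompl t
    refine ⟨IsLocalization.mk' _ a s, ?_⟩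
    rw [IsLocalization.lift_mk'_spec]
    rw [Localization.localRingHom_mk', IsLocalization.mk'_eq_iff_eq_mul, ← map_mul] at ht
    obtain ⟨c, hc⟩ := (IsLocalization.eq_iff_exists (maximalIdeal F).primeCompl _).1 ht
    have hcu : IsUnit (c : F) := by
      by_contra hu
      exact c.2 hu
    rw [hcu.mul_left_cancel hc, mul_comm]
  exact ⟨RingEquiv.ofBijective θ hbij⟩

/-- A flat local algebra, surjective on stalks, over a Cohen–Macaulay ring is Cohen–Macaulay. -/
theorem isCohenMacaulayLocalRing_of_surjectiveOnStalks {T F : Type u} [CommRing T] [CommRing F]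
    [IsLocalRing F] [LocCoh.IsCohenMacaulayRing T] (φ : T →+* F) (hfl : φ.Flat)
    (hs : φ.SurjectiveOnStalks) : LocCoh.IsCohenMacaulayLocalRing F := by
  obtain ⟨e⟩ := nonempty_ringEquiv_localization φ hfl hs
  haveI := LocCoh.IsCohenMacaulayRing.isCohenMacaulayLocalRing_localization (R := T) ((maximalIdeal F).comap φ)
  exact FlatLocalDepth.isCohenMacaulayLocalRing_of_ringEquiv e

/-- A fibre stays Noetherian after a base change essentially of finite type. -/
theorem isNoetherianRing_fibre_baseChange {O A B C : Type u} [CommRing O] [CommRing A] [CommRing B]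
    [CommRing C] [IsLocalRing O] [IsLocalRing B] [IsLocalRing C] [Algebra O A] [Algebra O B]
    [IsLocalHom (algebraMap O B)] [Algebra.EssFiniteType O B]
    (ψ : A ⊗[O] B →+* C) (hψ : ψ.Flat) (hψs : ψ.SurjectiveOnStalks)
    (fB : B →+* C) [IsLocalHom fB] (hB : ∀ b, ψ (1 ⊗ₜ b) = fB b)
    (hNA : IsNoetherianRing (A ⧸ (maximalIdeal O).map (algebraMap O A))) :
    IsNoetherianRing (C ⧸ (maximalIdeal B).map fB) := by
  let T := A ⊗[O] B
  let I := (maximalIdeal O).map (algebraMap O A)
  let J : Ideal T := (maximalIdeal B).map (Algebra.TensorProduct.includeRight : B →ₐ[O] T).toRingHom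
  let I' := (maximalIdeal B).map fB
  have hI' : I' ≤ maximalIdeal C :=
    Ideal.map_le_iff_le_comap.2 fun b hb hu => hb ((isUnit_map_iff fB b).1 hu)
  haveI : IsLocalRing (C ⧸ I') := FlatLocalDepth.isLocalRing_quotient hI'
  have hJ : J.map ψ = I' := by
    rw [Ideal.map_map]
    congr 1
    ext b
    exact hB b
  have hIJ : I ≤ J.comap (algebraMap A T) := Ideal.map_le_iff_le_comap.2 fun r hr => by
    show (algebraMap O A r) ⊗ₜ[O] (1 : B) ∈ J
    rw [Algebra.algebraMap_eq_smul_one, TensorProduct.smul_tmul, ← Algebra.algebraMap_eq_smul_one]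
    exact Ideal.mem_map_of_mem _ fun hu => hr ((isUnit_map_iff _ r).1 hu)
  letI : Algebra (A ⧸ I) (T ⧸ J) := (Ideal.quotientMap J (algebraMap A T) hIJ).toAlgebra
  haveI : IsScalarTower A (A ⧸ I) (T ⧸ J) := IsScalarTower.of_algebraMap_eq fun _ => rfl
  haveI : Algebra.EssFiniteType T (T ⧸ J) := inferInstance
  haveI : Algebra.EssFiniteType A (T ⧸ J) := Algebra.EssFiniteType.comp A T (T ⧸ J)
  haveI : Algebra.EssFiniteType (A ⧸ I) (T ⧸ J) := Algebra.EssFiniteType.of_comp A (A ⧸ I) (T ⧸ J)
  haveI : IsNoetherianRing (T ⧸ J) := Algebra.EssFiniteType.isNoetherianRing (A ⧸ I) (T ⧸ J)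
  let ψbar : T ⧸ J →+* C ⧸ I' := Ideal.quotientMap I' ψ (Ideal.map_le_iff_le_comap.1 hJ.le)
  have hψbar : ψbar.Flat := by
    letI : Algebra T C := ψ.toAlgebra
    haveI : Module.Flat T C := hψ
    letI : Algebra (T ⧸ J) (C ⧸ I') := ψbar.toAlgebra
    haveI : IsScalarTower T (T ⧸ J) (C ⧸ I') := ⟨fun t z w => by
      obtain ⟨z, rfl⟩ := Ideal.Quotient.mk_surjective (I := J) z
      obtain ⟨w, rfl⟩ := Ideal.Quotient.mk_surjective (I := I') w
      show Ideal.Quotient.mk I' (ψ (t * z) * w) = Ideal.Quotient.mk I' (ψ t * (ψ z * w))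
      rw [map_mul ψ, mul_assoc]⟩
    exact Module.Flat.of_linearEquiv (((TensorProduct.quotTensorEquivQuotSMul C J) ≪≫ₗ
      Submodule.quotEquivOfEq _ (I'.restrictScalars T) (by
        rw [Ideal.smul_top_eq_map]; exact congrArg _ hJ) ≪≫ₗ
      Submodule.Quotient.restrictScalarsEquiv T I').extendScalarsOfSurjective
        Ideal.Quotient.mk_surjective).symm
  have hs : ψbar.SurjectiveOnStalks := by
    refine RingHom.SurjectiveOnStalks.of_comp (f := Ideal.Quotient.mk J) ?_
    have : ψbar.comp (Ideal.Quotient.mk J) = (Ideal.Quotient.mk I').comp ψ := RingHom.ext fun _ => rfl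
    rw [this]
    exact (RingHom.surjectiveOnStalks_of_surjective Ideal.Quotient.mk_surjective).comp hψs
  obtain ⟨e⟩ := nonempty_ringEquiv_localization ψbar hψbar hs
  exact isNoetherianRing_of_ringEquiv _ e

/-- Cohen–Macaulayness of a fibre is insensitive to base change. -/
theorem isCohenMacaulayLocalRing_fibre_iff {O A B C : Type u} [CommRing O] [CommRing A] [CommRing B]
    [CommRing C] [IsLocalRing O] [IsLocalRing A] [IsLocalRing B] [IsLocalRing C] [Algebra O A]
    [Algebra O B] [IsLocalHom (algebraMap O A)] [IsLocalHom (algebraMap O B)]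
    (ψ : A ⊗[O] B →+* C) (hψ : ψ.Flat) (hψs : ψ.SurjectiveOnStalks)
    (fA : A →+* C) (fB : B →+* C) [IsLocalHom fA] [IsLocalHom fB]
    (hA : ∀ a, ψ (a ⊗ₜ 1) = fA a) (hB : ∀ b, ψ (1 ⊗ₜ b) = fB b)
    (hNA : IsNoetherianRing (A ⧸ (maximalIdeal O).map (algebraMap O A)))
    (hNC : IsNoetherianRing (C ⧸ (maximalIdeal B).map fB))
    (hfg : Algebra.EssFiniteType (ResidueField O) (ResidueField A) ∨
        Algebra.EssFiniteType (ResidueField O) (ResidueField B)) :
    LocCoh.IsCohenMacaulayLocalRing (C ⧸ (maximalIdeal B).map fB) ↔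
      LocCoh.IsCohenMacaulayLocalRing (A ⧸ (maximalIdeal O).map (algebraMap O A)) := by
  classical
  let κ := ResidueField O
  let L := ResidueField A
  let K := ResidueField B
  let I := (maximalIdeal O).map (algebraMap O A)
  let I' := (maximalIdeal B).map fB
  have hleA : (maximalIdeal A).map fA ≤ maximalIdeal C :=
    Ideal.map_le_iff_le_comap.2 fun a ha hu => ha ((isUnit_map_iff fA a).1 hu)
  have hleB : I' ≤ maximalIdeal C :=
    Ideal.map_le_iff_le_comap.2 fun b hb hu => hb ((isUnit_map_iff fB b).1 hu)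
  have hIA : I ≤ maximalIdeal A :=
    Ideal.map_le_iff_le_comap.2 fun r hr hu => hr ((isUnit_map_iff _ r).1 hu)
  have hfsq : ∀ r, fA (algebraMap O A r) = fB (algebraMap O B r) := fun r => by
    rw [← hA, ← hB, Algebra.algebraMap_eq_smul_one, TensorProduct.smul_tmul,
      ← Algebra.algebraMap_eq_smul_one]
  have hle : I ≤ I'.comap fA := Ideal.map_le_iff_le_comap.2 fun r hr => by
    rw [Ideal.mem_comap, Ideal.mem_comap, hfsq]
    exact Ideal.mem_map_of_mem _ fun hu => hr ((isUnit_map_iff _ r).1 hu)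
  let A₀ := A ⧸ I
  let C₀ := C ⧸ I'
  haveI : IsLocalRing A₀ := FlatLocalDepth.isLocalRing_quotient hIA
  haveI : IsLocalRing C₀ := FlatLocalDepth.isLocalRing_quotient hleB
  letI : Algebra A₀ C₀ := (Ideal.quotientMap I' fA hle).toAlgebra
  haveI : Module.Flat A₀ C₀ := flat_quotientMap_of_tensor ψ hψ fA fB hA hB hle
  haveI : IsLocalHom (Ideal.Quotient.mk I') := IsLocalHom.of_surjective _ Ideal.Quotient.mk_surjective
  haveI : IsLocalHom (algebraMap A₀ C₀) := ⟨fun a ha => by
    obtain ⟨a, rfl⟩ := Ideal.Quotient.mk_surjective a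
    exact ((isUnit_map_iff fA a).1 ((isUnit_map_iff (Ideal.Quotient.mk I') _).1 ha)).map _⟩
  refine (FlatLocalDepth.isCohenMacaulayLocalRing_iff A₀ C₀).trans ⟨And.left, fun h => ⟨h, ?_⟩⟩
  -- the closed fibre
  let N : Ideal C := (maximalIdeal A).map fA ⊔ I'
  let F := C ⧸ N
  have hN : N ≤ maximalIdeal C := sup_le hleA hleB
  haveI : IsLocalRing F := FlatLocalDepth.isLocalRing_quotient hN
  suffices hF : LocCoh.IsCohenMacaulayLocalRing F by
    haveI : IsLocalHom (Ideal.Quotient.mk I) := IsLocalHom.of_surjective _ Ideal.Quotient.mk_surjective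
    refine @FlatLocalDepth.isCohenMacaulayLocalRing_of_ringEquiv _ _ _ _ hF
      ((Ideal.quotEquivOfEq (show N = I' ⊔ (maximalIdeal A).map fA from sup_comm _ _)).trans
        ((DoubleQuot.quotQuotEquivQuotSup I' ((maximalIdeal A).map fA)).symm.trans
          (Ideal.quotEquivOfEq ?_)))
    rw [← IsLocalRing.map_maximalIdeal_of_surjective _ (Ideal.Quotient.mk_surjective (I := I)),
      Ideal.map_map, Ideal.map_map]
    rfl
  haveI : IsNoetherianRing (L ⊗[κ] K) := by
    rcases hfg with hL | hK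
    · haveI : Algebra.EssFiniteType κ L := hL
      haveI : IsNoetherianRing (K ⊗[κ] L) := Algebra.EssFiniteType.isNoetherianRing K (K ⊗[κ] L)
      exact isNoetherianRing_of_ringEquiv (K ⊗[κ] L) (Algebra.TensorProduct.comm κ K L).toRingEquiv
    · haveI : Algebra.EssFiniteType κ K := hK
      exact Algebra.EssFiniteType.isNoetherianRing L (L ⊗[κ] K)
  haveI : LocCoh.IsCohenMacaulayRing (L ⊗[κ] K) := S2614.result κ L K hfg
  let T := A ⊗[O] B
  let J : Ideal T := (maximalIdeal A).map (Algebra.TensorProduct.includeLeftRingHom : A →+* T) ⊔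
    (maximalIdeal B).map (Algebra.TensorProduct.includeRight : B →ₐ[O] T).toRingHom
  have hJ : J.map ψ = N := by
    rw [Ideal.map_sup, Ideal.map_map, Ideal.map_map]
    congr 2
    · ext a; exact hA a
    · ext b; exact hB b
  let ψbar : T ⧸ J →+* F := Ideal.quotientMap N ψ (Ideal.map_le_iff_le_comap.1 hJ.le)
  have hψbar : ψbar.Flat := by
    letI : Algebra T C := ψ.toAlgebra
    haveI : Module.Flat T C := hψ
    letI : Algebra (T ⧸ J) F := ψbar.toAlgebra
    haveI : IsScalarTower T (T ⧸ J) F := ⟨fun t z w => by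
      obtain ⟨z, rfl⟩ := Ideal.Quotient.mk_surjective (I := J) z
      obtain ⟨w, rfl⟩ := Ideal.Quotient.mk_surjective (I := N) w
      show Ideal.Quotient.mk N (ψ (t * z) * w) = Ideal.Quotient.mk N (ψ t * (ψ z * w))
      rw [map_mul ψ, mul_assoc]⟩
    exact Module.Flat.of_linearEquiv (((TensorProduct.quotTensorEquivQuotSMul C J) ≪≫ₗ
      Submodule.quotEquivOfEq _ (N.restrictScalars T) (by
        rw [Ideal.smul_top_eq_map]; exact congrArg _ hJ) ≪≫ₗ
      Submodule.Quotient.restrictScalarsEquiv T N).extendScalarsOfSurjective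
        Ideal.Quotient.mk_surjective).symm
  -- `T ⧸ J` is the tensor product of the residue fields
  let lA : L →+* T ⧸ J := Ideal.Quotient.lift _
    ((Ideal.Quotient.mk J).comp (Algebra.TensorProduct.includeLeftRingHom : A →+* T)) fun a ha =>
      Ideal.Quotient.eq_zero_iff_mem.2 (Ideal.mem_sup_left (Ideal.mem_map_of_mem _ ha))
  let lB : K →+* T ⧸ J := Ideal.Quotient.lift _
    ((Ideal.Quotient.mk J).comp (Algebra.TensorProduct.includeRight : B →ₐ[O] T).toRingHom) fun b hb =>
      Ideal.Quotient.eq_zero_iff_mem.2 (Ideal.mem_sup_right (Ideal.mem_map_of_mem _ hb))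
  have hlκ : lA.comp (algebraMap κ L) = lB.comp (algebraMap κ K) := by
    refine Ideal.Quotient.ringHom_ext (RingHom.ext fun r => ?_)
    show Ideal.Quotient.mk J ((algebraMap O A r) ⊗ₜ[O] (1 : B)) =
      Ideal.Quotient.mk J ((1 : A) ⊗ₜ[O] (algebraMap O B r))
    rw [Algebra.algebraMap_eq_smul_one, TensorProduct.smul_tmul, ← Algebra.algebraMap_eq_smul_one]
  letI : Algebra κ (T ⧸ J) := (lA.comp (algebraMap κ L)).toAlgebra
  let σ : L ⊗[κ] K →ₐ[κ] T ⧸ J := Algebra.TensorProduct.lift
    { lA with commutes' := fun _ => rfl }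
    { lB with commutes' := fun r => (RingHom.congr_fun hlκ r).symm }
    fun _ _ => Commute.all _ _
  let π : T →ₐ[O] L ⊗[κ] K := Algebra.TensorProduct.lift
    { (Algebra.TensorProduct.includeLeftRingHom : L →+* L ⊗[κ] K).comp (IsLocalRing.residue A) with
      commutes' := fun r => rfl }
    { (Algebra.TensorProduct.includeRight : K →ₐ[κ] L ⊗[κ] K).toRingHom.comp (IsLocalRing.residue B) with
      commutes' := fun r => by
        show (1 : L) ⊗ₜ[κ] (algebraMap κ K (IsLocalRing.residue O r)) =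
          algebraMap κ L (IsLocalRing.residue O r) ⊗ₜ[κ] (1 : K)
        rw [Algebra.algebraMap_eq_smul_one, ← TensorProduct.smul_tmul, ← Algebra.algebraMap_eq_smul_one] }
    fun _ _ => Commute.all _ _
  have hπJ : ∀ t ∈ J, π t = 0 := fun t ht => by
    have : J ≤ RingHom.ker π.toRingHom := sup_le
      (Ideal.map_le_iff_le_comap.2 fun a ha => by
        show π (a ⊗ₜ[O] (1 : B)) = 0
        rw [Algebra.TensorProduct.lift_tmul]
        simp [(IsLocalRing.residue_eq_zero_iff _).2 ha])
      (Ideal.map_le_iff_le_comap.2 fun b hb => by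
        show π ((1 : A) ⊗ₜ[O] b) = 0
        rw [Algebra.TensorProduct.lift_tmul]
        simp [(IsLocalRing.residue_eq_zero_iff _).2 hb])
    exact this ht
  have hσπ : ∀ t, σ (π t) = Ideal.Quotient.mk J t := fun t => by
    induction t using TensorProduct.induction_on with
    | zero => simp
    | add x y hx hy => simp only [map_add, hx, hy]
    | tmul a b =>
      rw [Algebra.TensorProduct.lift_tmul]
      show σ (((IsLocalRing.residue A a) ⊗ₜ[κ] (1 : K)) * ((1 : L) ⊗ₜ[κ] (IsLocalRing.residue B b))) = _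
      rw [Algebra.TensorProduct.tmul_mul_tmul, mul_one, one_mul, Algebra.TensorProduct.lift_tmul]
      show Ideal.Quotient.mk J (a ⊗ₜ[O] (1 : B)) * Ideal.Quotient.mk J ((1 : A) ⊗ₜ[O] b) = _
      rw [← map_mul, Algebra.TensorProduct.tmul_mul_tmul, mul_one, one_mul]
  have hπ : Function.Surjective π := fun z => by
    induction z using TensorProduct.induction_on with
    | zero => exact ⟨0, map_zero _⟩
    | add x y hx hy =>
      obtain ⟨x, rfl⟩ := hx
      obtain ⟨y, rfl⟩ := hy
      exact ⟨x + y, map_add _ _ _⟩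
    | tmul l k =>
      obtain ⟨a, rfl⟩ := IsLocalRing.residue_surjective l
      obtain ⟨b, rfl⟩ := IsLocalRing.residue_surjective k
      refine ⟨a ⊗ₜ[O] b, ?_⟩
      rw [Algebra.TensorProduct.lift_tmul]
      show ((IsLocalRing.residue A a) ⊗ₜ[κ] (1 : K)) * ((1 : L) ⊗ₜ[κ] (IsLocalRing.residue B b)) = _
      rw [Algebra.TensorProduct.tmul_mul_tmul, mul_one, one_mul]
  have hσ : Function.Bijective σ := ⟨fun x y hxy => by
      obtain ⟨x, rfl⟩ := hπ x
      obtain ⟨y, rfl⟩ := hπ y
      rw [hσπ, hσπ, Ideal.Quotient.eq] at hxy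
      rw [← sub_eq_zero, ← map_sub]
      exact hπJ _ hxy,
    fun z => by
      obtain ⟨t, rfl⟩ := Ideal.Quotient.mk_surjective z
      exact ⟨π t, hσπ t⟩⟩
  refine isCohenMacaulayLocalRing_of_surjectiveOnStalks (ψbar.comp σ.toRingHom)
    ((RingHom.Flat.of_bijective hσ).comp hψbar) ?_
  refine RingHom.SurjectiveOnStalks.of_comp (f := π.toRingHom) ?_
  have : (ψbar.comp σ.toRingHom).comp π.toRingHom = (Ideal.Quotient.mk N).comp ψ :=
    RingHom.ext fun t => congrArg ψbar (hσπ t)
  rw [this]
  exact (RingHom.surjectiveOnStalks_of_surjective Ideal.Quotient.mk_surjective).comp hψs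

end Groth.Agent.FlatOverBC
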