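import Groth.Agent.FlatOverBC.Scheme
import Groth.Agent.FlatOverBC.CMAlg
import Groth.Agent.FlatLocalDepth.CMAt
import Groth.Prelude.Def_MoreMor

/-!
Cohen–Macaulay fibres of a morphism under base change.
-/

set_option autoImplicit false
set_option linter.style.haveILetI false

namespace Groth.Agent.FlatOverBC

open CategoryTheory Limits AlgebraicGeometry IsLocalRing TensorProduct

universe u

variable {X S X' S' : Scheme.{u}} {f : X ⟶ S} {f' : X' ⟶ S'} {g' : X' ⟶ X} {g : S' ⟶ S}

theorem essFiniteType_residueField (O A : Type u) [CommRing O] [CommRing A] [IsLocalRing O]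
    [IsLocalRing A] [Algebra O A] [IsLocalHom (algebraMap O A)] [Algebra.EssFiniteType O A] :
    Algebra.EssFiniteType (ResidueField O) (ResidueField A) := by
  haveI : Algebra.EssFiniteType O (ResidueField A) := Algebra.EssFiniteType.comp O A (ResidueField A)
  exact Algebra.EssFiniteType.of_comp O (ResidueField O) (ResidueField A)

theorem stalkCongr_inv_eq (x : X) :
    (S.presheaf.stalkCongr (.of_eq (rfl : f x = f x))).inv ≫ f.stalkMap x = f.stalkMap x := by
  simp

/-- The fibre stays Noetherian under a base change locally of finite type. -/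
theorem isNoetherianRing_fibreQuot_baseChange [LocallyOfFiniteType g]
    (hc : IsPullback g' f' f g) (x' : X') (hN : IsLocallyNoetherian (f.fiber (f (g' x')))) :
    IsNoetherianRing (X'.presheaf.stalk x' ⧸
      (maximalIdeal (S'.presheaf.stalk (f' x'))).map (f'.stalkMap x').hom) := by
  have h2 : g (f' x') = f (g' x') := by
    rw [← Scheme.Hom.comp_apply, ← hc.w, Scheme.Hom.comp_apply]
  obtain ⟨ψ, hψ, hψs, hA, hB⟩ := exists_tensor_localization hc x' (f (g' x')) rfl h2
  let O := S.presheaf.stalk (f (g' x'))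
  let A := X.presheaf.stalk (g' x')
  let B := S'.presheaf.stalk (f' x')
  let φB : O ⟶ B := (S.presheaf.stalkCongr (.of_eq h2)).inv ≫ g.stalkMap (f' x')
  letI : Algebra O A :=
    ((S.presheaf.stalkCongr (.of_eq (rfl : f (g' x') = _))).inv ≫ f.stalkMap (g' x')).hom.toAlgebra
  letI : Algebra O B := φB.hom.toAlgebra
  haveI : IsLocalHom (algebraMap O B) := inferInstanceAs (IsLocalHom φB.hom)
  haveI : Algebra.EssFiniteType O B :=
    RingHom.EssFiniteType.respectsIso.2 (g.stalkMap (f' x')).hom
      (S.presheaf.stalkCongr (.of_eq h2)).commRingCatIsoToRingEquiv.symm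
      (LocallyOfFiniteType.stalkMap g (f' x'))
  refine isNoetherianRing_fibre_baseChange ψ hψ hψs (f'.stalkMap x').hom hB ?_
  show IsNoetherianRing (A ⧸ (maximalIdeal O).map
    ((S.presheaf.stalkCongr (.of_eq (rfl : f (g' x') = _))).inv ≫ f.stalkMap (g' x')).hom)
  rw [stalkCongr_inv_eq]
  exact FlatLocalDepth.isNoetherianRing_fibre_quotient f (g' x') hN

/-- Cohen–Macaulayness of the fibre at a point is insensitive to base change. -/
theorem isCohenMacaulay_fibreQuot_baseChange_iff (hc : IsPullback g' f' f g) (x' : X')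
    (hN : IsLocallyNoetherian (f.fiber (f (g' x'))))
    (hNC : IsNoetherianRing (X'.presheaf.stalk x' ⧸
      (maximalIdeal (S'.presheaf.stalk (f' x'))).map (f'.stalkMap x').hom))
    (hfg : LocallyOfFiniteType f ∨ LocallyOfFiniteType g) :
    LocCoh.IsCohenMacaulayLocalRing (X'.presheaf.stalk x' ⧸
        (maximalIdeal (S'.presheaf.stalk (f' x'))).map (f'.stalkMap x').hom) ↔
      LocCoh.IsCohenMacaulayLocalRing (X.presheaf.stalk (g' x') ⧸
        (maximalIdeal (S.presheaf.stalk (f (g' x')))).map (f.stalkMap (g' x')).hom) := by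
  have h2 : g (f' x') = f (g' x') := by
    rw [← Scheme.Hom.comp_apply, ← hc.w, Scheme.Hom.comp_apply]
  obtain ⟨ψ, hψ, hψs, hA, hB⟩ := exists_tensor_localization hc x' (f (g' x')) rfl h2
  let O := S.presheaf.stalk (f (g' x'))
  let A := X.presheaf.stalk (g' x')
  let B := S'.presheaf.stalk (f' x')
  let φA : O ⟶ A :=
    (S.presheaf.stalkCongr (.of_eq (rfl : f (g' x') = _))).inv ≫ f.stalkMap (g' x')
  let φB : O ⟶ B := (S.presheaf.stalkCongr (.of_eq h2)).inv ≫ g.stalkMap (f' x')
  letI : Algebra O A := φA.hom.toAlgebra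
  letI : Algebra O B := φB.hom.toAlgebra
  haveI : IsLocalHom (algebraMap O A) := inferInstanceAs (IsLocalHom φA.hom)
  haveI : IsLocalHom (algebraMap O B) := inferInstanceAs (IsLocalHom φB.hom)
  have hI : (maximalIdeal O).map (algebraMap O A) =
      (maximalIdeal O).map (f.stalkMap (g' x')).hom := by
    show (maximalIdeal O).map φA.hom = _
    rw [show φA = f.stalkMap (g' x') from stalkCongr_inv_eq _]
  have hNA : IsNoetherianRing (A ⧸ (maximalIdeal O).map (algebraMap O A)) := by
    rw [hI]
    exact FlatLocalDepth.isNoetherianRing_fibre_quotient f (g' x') hN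
  have hfg' : Algebra.EssFiniteType (ResidueField O) (ResidueField A) ∨
      Algebra.EssFiniteType (ResidueField O) (ResidueField B) := by
    rcases hfg with hf | hg
    · haveI : Algebra.EssFiniteType O A :=
        RingHom.EssFiniteType.respectsIso.2 (f.stalkMap (g' x')).hom
          (S.presheaf.stalkCongr (.of_eq (rfl : f (g' x') = _))).commRingCatIsoToRingEquiv.symm
          (LocallyOfFiniteType.stalkMap f (g' x'))
      exact Or.inl (essFiniteType_residueField O A)
    · haveI : Algebra.EssFiniteType O B :=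
        RingHom.EssFiniteType.respectsIso.2 (g.stalkMap (f' x')).hom
          (S.presheaf.stalkCongr (.of_eq h2)).commRingCatIsoToRingEquiv.symm
          (LocallyOfFiniteType.stalkMap g (f' x'))
      exact Or.inr (essFiniteType_residueField O B)
  rw [isCohenMacaulayLocalRing_fibre_iff ψ hψ hψs (g'.stalkMap x').hom (f'.stalkMap x').hom
    hA hB hNA hNC hfg']
  have hiff : ∀ I J : Ideal A, I = J → (LocCoh.IsCohenMacaulayLocalRing (A ⧸ I) ↔
      LocCoh.IsCohenMacaulayLocalRing (A ⧸ J)) := fun I J h => by subst h; rfl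
  exact hiff _ _ hI

/-- Fibres of a morphism locally of finite type are locally Noetherian. -/
theorem isLocallyNoetherian_fiber (f : X ⟶ S) [LocallyOfFiniteType f] (s : S) :
    IsLocallyNoetherian (f.fiber s) := by
  haveI : LocallyOfFiniteType (f.fiberToSpecResidueField s) :=
    inferInstanceAs (LocallyOfFiniteType (pullback.snd _ _))
  exact LocallyOfFiniteType.isLocallyNoetherian (f.fiberToSpecResidueField s)

theorem isCMAt_baseChange_iff_of_flat (hc : IsPullback g' f' f g) (x' : X')
    (hN : IsLocallyNoetherian (f.fiber (f (g' x'))))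
    (hNC : IsNoetherianRing (X'.presheaf.stalk x' ⧸
      (maximalIdeal (S'.presheaf.stalk (f' x'))).map (f'.stalkMap x').hom))
    (hfg : LocallyOfFiniteType f ∨ LocallyOfFiniteType g)
    (hflat : (f.stalkMap (g' x')).hom.Flat) :
    MoreMor.IsCMAt f' x' ↔ MoreMor.IsCMAt f (g' x') := by
  rw [FlatLocalDepth.isCMAt_iff, FlatLocalDepth.isCMAt_iff,
    isCohenMacaulay_fibreQuot_baseChange_iff hc x' hN hNC hfg]
  simp only [hflat, GrpSch.flat_stalkMap_of_isPullback hc x' hflat]

end Groth.Agent.FlatOverBC
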