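import Mathlib

/-!
Flatness over a base and base change: the algebra.
-/

namespace Groth.Agent.FlatOverBC

open TensorProduct

universe u

/-- A tensor product with a flat module is flat over a base. -/
theorem flat_tensor_of_flat (B T C M : Type u) [CommRing B] [CommRing T] [Algebra B T]
    [AddCommGroup C] [Module T C] [Module B C] [IsScalarTower B T C] [Module.Flat T C]
    [AddCommGroup M] [Module T M] [Module B M] [IsScalarTower B T M] [Module.Flat B M] :
    Module.Flat B (C ⊗[T] M) := by
  rw [Module.Flat.iff_lTensor_preserves_injective_linearMap]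
  intro N N' _ _ _ _ g hg
  let g' : M ⊗[B] N →ₗ[T] M ⊗[B] N' := AlgebraTensorModule.lTensor T M g
  have hg' : Function.Injective g' := by
    show Function.Injective (AlgebraTensorModule.lTensor (R := B) T M g)
    rw [AlgebraTensorModule.coe_lTensor]
    exact Module.Flat.lTensor_preserves_injective_linearMap g hg
  have h := Module.Flat.lTensor_preserves_injective_linearMap (M := C) g' hg'
  let e := AlgebraTensorModule.assoc B T T C M N
  let e' := AlgebraTensorModule.assoc B T T C M N'
  have : ∀ z, e' (g.lTensor (C ⊗[T] M) z) = g'.lTensor C (e z) := fun z => by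
    induction z with
    | zero => simp
    | add a b ha hb => simp only [map_add, ha, hb]
    | tmul x n =>
      induction x with
      | zero => simp
      | add a b ha hb =>
        simp only [LinearMap.lTensor_tmul] at ha hb ⊢
        simp only [add_tmul, map_add, ha, hb]
      | tmul c m => rfl
  intro a b hab
  apply e.injective
  apply h
  rw [← this, ← this, hab]

/-- Base change of a module flat over the base stays flat over the new base. -/
theorem flat_baseChange_over (O A B C M : Type u) [CommRing O] [CommRing A] [CommRing B]
    [CommRing C] [Algebra O A] [Algebra O B] [Algebra A C] [Algebra B C]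
    (ψ : A ⊗[O] B →+* C) (hψ : ψ.Flat) (hA : ∀ a, ψ (a ⊗ₜ 1) = algebraMap A C a)
    (hB : ∀ b, ψ (1 ⊗ₜ b) = algebraMap B C b)
    [AddCommGroup M] [Module A M] [Module O M] [IsScalarTower O A M] [Module.Flat O M] :
    Module.Flat B (C ⊗[A] M) := by
  let T := A ⊗[O] B
  letI : Algebra T C := ψ.toAlgebra
  haveI : Module.Flat T C := hψ
  letI : Algebra B T := Algebra.TensorProduct.rightAlgebra
  haveI : IsScalarTower A T C := IsScalarTower.of_algebraMap_eq fun a => (hA a).symm
  haveI : IsScalarTower B T C := IsScalarTower.of_algebraMap_eq fun b => (hB b).symm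
  haveI : IsScalarTower B T (T ⊗[A] M) := TensorProduct.isScalarTower_left
  let e₀ : T ⊗[A] M ≃+ B ⊗[O] M :=
    ((TensorProduct.comm A T M).toAddEquiv.trans
      (AlgebraTensorModule.cancelBaseChange O A A M B).toAddEquiv).trans
        (TensorProduct.comm O M B).toAddEquiv
  have he : ∀ (b : B) z, e₀ (b • z) = b • e₀ z := fun b z => by
    induction z with
    | zero => simp
    | add x y hx hy => simp only [smul_add, map_add, hx, hy]
    | tmul t m =>
      induction t using TensorProduct.induction_on with
      | zero => simp
      | add x y hx hy => simp only [add_tmul, smul_add, map_add, hx, hy]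
      | tmul a b' =>
        rw [smul_tmul', Algebra.smul_def,
          show algebraMap B T b = (1 : A) ⊗ₜ[O] b from rfl, Algebra.TensorProduct.tmul_mul_tmul,
          one_mul]
        show (b * b') ⊗ₜ[O] (a • m) = b • b' ⊗ₜ[O] (a • m)
        rw [smul_tmul', smul_eq_mul]
  haveI : Module.Flat B (T ⊗[A] M) :=
    Module.Flat.of_linearEquiv { e₀ with map_smul' := he }
  haveI := flat_tensor_of_flat B T C (T ⊗[A] M)
  exact Module.Flat.of_linearEquiv
    ((AlgebraTensorModule.cancelBaseChange A T C C M).symm.restrictScalars B)

/-- Flatness over the base descends along a faithfully flat base change. -/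
theorem flat_of_flat_baseChange (O A C M : Type u) [CommRing O] [CommRing A] [CommRing C]
    [Algebra O A] [Algebra A C] [Algebra O C] [IsScalarTower O A C] [Module.FaithfullyFlat A C]
    [AddCommGroup M] [Module A M] [Module O M] [IsScalarTower O A M]
    [Module.Flat O (C ⊗[A] M)] : Module.Flat O M := by
  rw [Module.Flat.iff_lTensor_preserves_injective_linearMap]
  intro N N' _ _ _ _ g hg
  let g' : M ⊗[O] N →ₗ[A] M ⊗[O] N' := AlgebraTensorModule.lTensor A M g
  suffices Function.Injective g' by
    have h : Function.Injective (AlgebraTensorModule.lTensor (R := O) A M g) := this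
    rwa [AlgebraTensorModule.coe_lTensor] at h
  apply (Module.FaithfullyFlat.lTensor_injective_iff_injective A C g').1
  let e := AlgebraTensorModule.assoc O A A C M N
  let e' := AlgebraTensorModule.assoc O A A C M N'
  have : ∀ z, e' (g.lTensor (C ⊗[A] M) z) = g'.lTensor C (e z) := fun z => by
    induction z with
    | zero => simp
    | add a b ha hb => simp only [map_add, ha, hb]
    | tmul x n =>
      induction x with
      | zero => simp
      | add a b ha hb =>
        simp only [LinearMap.lTensor_tmul] at ha hb ⊢
        simp only [add_tmul, map_add, ha, hb]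
      | tmul c m => rfl
  have h := Module.Flat.lTensor_preserves_injective_linearMap (M := C ⊗[A] M) g hg
  intro a b hab
  obtain ⟨a, rfl⟩ := e.surjective a
  obtain ⟨b, rfl⟩ := e.surjective b
  rw [← this, ← this] at hab
  exact congrArg e (h (e'.injective hab))

end Groth.Agent.FlatOverBC
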