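import Groth.Prelude.Def_FlatMod2
import Groth.Agent.FlatOverBC.Algebra
import Groth.Agent.DCohBridge.StalkPull
import Groth.Agent.GrpSch.FlatPoint
import Groth.Agent.FlatMorLib.SpecStalk

/-!
Flatness over the base at a point and base change.
-/

set_option autoImplicit false

namespace Groth.Agent.FlatOverBC

open CategoryTheory Limits AlgebraicGeometry TensorProduct

universe u

variable {X S X' S' : Scheme.{u}} {f : X ⟶ S} {f' : X' ⟶ S'} {g' : X' ⟶ X} {g : S' ⟶ S}

/-- A property stable under base change passes to a map into the source of a monomorphism. -/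
theorem of_comp_mono (P : MorphismProperty Scheme.{u}) [P.IsStableUnderBaseChange]
    {W T Y : Scheme.{u}} (h : W ⟶ T) (i : T ⟶ Y) [Mono i] (hp : P (h ≫ i)) : P h := by
  have sq : IsPullback (h ≫ 𝟙 T) (𝟙 W) i (h ≫ i) :=
    (IsPullback.of_vert_isIso ⟨by simp⟩ : IsPullback h (𝟙 W) (𝟙 T) h).paste_horiz
      (IsKernelPair.id_of_mono i)
  have : P (h ≫ 𝟙 T) := MorphismProperty.of_isPullback sq.flip hp
  simpa using this

/-- A map into the source of a monomorphism is flat if the composite is. -/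
theorem flat_of_flat_comp_mono {W T Y : Scheme.{u}} (h : W ⟶ T) (i : T ⟶ Y) [Mono i]
    [Flat (h ≫ i)] : Flat h :=
  of_comp_mono @Flat h i inferInstance

/-- Local rings of a fibre product are localisations of the tensor product of the local rings. -/
theorem exists_tensor_localization (hc : IsPullback g' f' f g) (x' : X')
    (s : S) (h1 : f (g' x') = s) (h2 : g (f' x') = s) :
    letI : Algebra (S.presheaf.stalk s) (X.presheaf.stalk (g' x')) :=
      ((S.presheaf.stalkCongr (.of_eq h1)).inv ≫ f.stalkMap (g' x')).hom.toAlgebra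
    letI : Algebra (S.presheaf.stalk s) (S'.presheaf.stalk (f' x')) :=
      ((S.presheaf.stalkCongr (.of_eq h2)).inv ≫ g.stalkMap (f' x')).hom.toAlgebra
    ∃ ψ : X.presheaf.stalk (g' x') ⊗[S.presheaf.stalk s] S'.presheaf.stalk (f' x') →+*
        X'.presheaf.stalk x',
      ψ.Flat ∧ ψ.SurjectiveOnStalks ∧ (∀ a, ψ (a ⊗ₜ 1) = g'.stalkMap x' a) ∧ (∀ b, ψ (1 ⊗ₜ b) = f'.stalkMap x' b) := by
  let O := S.presheaf.stalk s
  let A := X.presheaf.stalk (g' x')
  let B := S'.presheaf.stalk (f' x')
  let φA : O ⟶ A := (S.presheaf.stalkCongr (.of_eq h1)).inv ≫ f.stalkMap (g' x')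
  let φB : O ⟶ B := (S.presheaf.stalkCongr (.of_eq h2)).inv ≫ g.stalkMap (f' x')
  letI : Algebra O A := φA.hom.toAlgebra
  letI : Algebra O B := φB.hom.toAlgebra
  have eA : Spec.map φA ≫ S.fromSpecStalk s = X.fromSpecStalk (g' x') ≫ f := by
    simp only [φA, Spec.map_comp, Category.assoc, TopCat.Presheaf.stalkCongr_inv,
      Scheme.SpecMap_stalkSpecializes_fromSpecStalk, Scheme.SpecMap_stalkMap_fromSpecStalk]
  have eB : Spec.map φB ≫ S.fromSpecStalk s = S'.fromSpecStalk (f' x') ≫ g := by
    simp only [φB, Spec.map_comp, Category.assoc, TopCat.Presheaf.stalkCongr_inv,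
      Scheme.SpecMap_stalkSpecializes_fromSpecStalk, Scheme.SpecMap_stalkMap_fromSpecStalk]
  have hP := (isPullback_SpecMap_of_isPushout _ _ _ _
    (CommRingCat.isPushout_tensorProduct O A B))
  have w : (Spec.map (CommRingCat.ofHom
      (Algebra.TensorProduct.includeLeftRingHom : A →+* A ⊗[O] B)) ≫ X.fromSpecStalk (g' x')) ≫ f =
      (Spec.map (CommRingCat.ofHom
        (Algebra.TensorProduct.includeRight : B →ₐ[O] A ⊗[O] B).toRingHom) ≫
          S'.fromSpecStalk (f' x')) ≫ g := by
    rw [Category.assoc, Category.assoc, ← eA, ← eB]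
    exact (Category.assoc _ _ _).symm.trans ((congrArg (· ≫ S.fromSpecStalk s) hP.w).trans (Category.assoc _ _ _))
  let i : Spec (.of (A ⊗[O] B)) ⟶ X' := hc.lift _ _ w
  haveI : Mono i := ⟨fun {W} u v huv => by
    apply hP.hom_ext
    · rw [← cancel_mono (X.fromSpecStalk (g' x'))]
      have := congrArg (· ≫ g') huv
      simpa [i] using this
    · rw [← cancel_mono (S'.fromSpecStalk (f' x'))]
      have := congrArg (· ≫ f') huv
      simpa [i] using this⟩
  let h : Spec (X'.presheaf.stalk x') ⟶ Spec (.of (A ⊗[O] B)) :=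
    hP.lift (Spec.map (g'.stalkMap x')) (Spec.map (f'.stalkMap x')) (by
      rw [← cancel_mono (S.fromSpecStalk s), Category.assoc, Category.assoc]
      erw [eA, eB]
      simp [hc.w])
  have hh : h ≫ i = X'.fromSpecStalk x' := by
    apply hc.hom_ext
    · simp [h, i]
    · simp [h, i]
  haveI : Flat (h ≫ i) := hh ▸ FlatMorLib.flat_fromSpecStalk x'
  haveI := flat_of_flat_comp_mono h i
  refine ⟨(Spec.preimage h).hom, (HasRingHomProperty.Spec_iff (P := @Flat)).1
    ((Spec.map_preimage h).symm ▸ inferInstance),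
    ((IsPreimmersion.SpecMap_iff _).1 ((Spec.map_preimage h).symm ▸
      of_comp_mono @IsPreimmersion h i (hh ▸ inferInstance))).2, fun a => ?_, fun b => ?_⟩
  · have e : CommRingCat.ofHom (Algebra.TensorProduct.includeLeftRingHom : A →+* A ⊗[O] B) ≫
        Spec.preimage h = g'.stalkMap x' :=
      Spec.map_injective (by rw [Spec.map_comp, Spec.map_preimage]; exact hP.lift_fst _ _ _)
    exact congr($(e).hom a)
  · have e : CommRingCat.ofHom (Algebra.TensorProduct.includeRight : B →ₐ[O] A ⊗[O] B).toRingHom ≫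
        Spec.preimage h = f'.stalkMap x' :=
      Spec.map_injective (by rw [Spec.map_comp, Spec.map_preimage]; exact hP.lift_snd _ _ _)
    exact congr($(e).hom b)

/-- Local rings of a fibre product are flat over the tensor product of the local rings. -/
theorem exists_tensor_flat (hc : IsPullback g' f' f g) (x' : X')
    (s : S) (h1 : f (g' x') = s) (h2 : g (f' x') = s) :
    letI : Algebra (S.presheaf.stalk s) (X.presheaf.stalk (g' x')) :=
      ((S.presheaf.stalkCongr (.of_eq h1)).inv ≫ f.stalkMap (g' x')).hom.toAlgebra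
    letI : Algebra (S.presheaf.stalk s) (S'.presheaf.stalk (f' x')) :=
      ((S.presheaf.stalkCongr (.of_eq h2)).inv ≫ g.stalkMap (f' x')).hom.toAlgebra
    ∃ ψ : X.presheaf.stalk (g' x') ⊗[S.presheaf.stalk s] S'.presheaf.stalk (f' x') →+*
        X'.presheaf.stalk x',
      ψ.Flat ∧ (∀ a, ψ (a ⊗ₜ 1) = g'.stalkMap x' a) ∧ (∀ b, ψ (1 ⊗ₜ b) = f'.stalkMap x' b) := by
  obtain ⟨ψ, hψ, -, hA, hB⟩ := exists_tensor_localization hc x' s h1 h2
  exact ⟨ψ, hψ, hA, hB⟩

theorem isFlatOverAt_baseChange (hc : IsPullback g' f' f g) (F : X.Modules) (x' : X')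
    (h : FlatMod.IsFlatOverAt f F (g' x')) :
    FlatMod.IsFlatOverAt f' ((Scheme.Modules.pullback g').obj F) x' := by
  let s := f (g' x')
  have h2 : g (f' x') = s := by
    rw [← Scheme.Hom.comp_apply, ← hc.w, Scheme.Hom.comp_apply]
  obtain ⟨ψ, hψ, hA, hB⟩ := exists_tensor_flat hc x' s rfl h2
  letI : Algebra (S.presheaf.stalk s) (X.presheaf.stalk (g' x')) :=
    ((S.presheaf.stalkCongr (.of_eq (rfl : f (g' x') = s))).inv ≫ f.stalkMap (g' x')).hom.toAlgebra
  letI : Algebra (S.presheaf.stalk s) (S'.presheaf.stalk (f' x')) :=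
    ((S.presheaf.stalkCongr (.of_eq h2)).inv ≫ g.stalkMap (f' x')).hom.toAlgebra
  letI : Algebra (X.presheaf.stalk (g' x')) (X'.presheaf.stalk x') := (g'.stalkMap x').hom.toAlgebra
  letI : Algebra (S'.presheaf.stalk (f' x')) (X'.presheaf.stalk x') := (f'.stalkMap x').hom.toAlgebra
  letI := FlatMod.moduleStalkOver f F (g' x')
  haveI : IsScalarTower (S.presheaf.stalk s) (X.presheaf.stalk (g' x')) (F.presheaf.stalk (g' x')) :=
    .of_algebraMap_smul fun r m => by
      show ((S.presheaf.stalkCongr (.of_eq (rfl : s = s))).inv ≫ f.stalkMap (g' x')).hom r • m =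
        (f.stalkMap (g' x')).hom r • m
      simp
  haveI : Module.Flat (S.presheaf.stalk s) (F.presheaf.stalk (g' x')) := h
  have := flat_baseChange_over (S.presheaf.stalk s) (X.presheaf.stalk (g' x'))
    (S'.presheaf.stalk (f' x')) (X'.presheaf.stalk x') (F.presheaf.stalk (g' x')) ψ hψ hA hB
  let e : ((Scheme.Modules.pullback g').obj F).presheaf.stalk x' ≃ₗ[X'.presheaf.stalk x']
      X'.presheaf.stalk x' ⊗[X.presheaf.stalk (g' x')] F.presheaf.stalk (g' x') :=
    ((DCohBridge.stalkPullIso g' x').app F).toLinearEquiv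
  letI := FlatMod.moduleStalkOver f' ((Scheme.Modules.pullback g').obj F) x'
  exact Module.Flat.of_linearEquiv
    ({ e.toAddEquiv with map_smul' := fun r m => e.map_smul ((f'.stalkMap x').hom r) m } :
      ((Scheme.Modules.pullback g').obj F).presheaf.stalk x' ≃ₗ[S'.presheaf.stalk (f' x')]
        X'.presheaf.stalk x' ⊗[X.presheaf.stalk (g' x')] F.presheaf.stalk (g' x'))

theorem isFlatOverAt_of_baseChange (hc : IsPullback g' f' f g) (F : X.Modules) (x' : X')
    (hg : (g.stalkMap (f' x')).hom.Flat)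
    (h : FlatMod.IsFlatOverAt f' ((Scheme.Modules.pullback g').obj F) x') :
    FlatMod.IsFlatOverAt f F (g' x') := by
  let s := f (g' x')
  have h2 : g (f' x') = s := by
    rw [← Scheme.Hom.comp_apply, ← hc.w, Scheme.Hom.comp_apply]
  let φA := f.stalkMap (g' x')
  let φC := g'.stalkMap x'
  letI : Algebra (S.presheaf.stalk s) (X.presheaf.stalk (g' x')) := φA.hom.toAlgebra
  letI : Algebra (X.presheaf.stalk (g' x')) (X'.presheaf.stalk x') := φC.hom.toAlgebra
  letI : Algebra (S.presheaf.stalk s) (X'.presheaf.stalk x') := (φA ≫ φC).hom.toAlgebra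
  haveI : IsScalarTower (S.presheaf.stalk s) (X.presheaf.stalk (g' x')) (X'.presheaf.stalk x') :=
    IsScalarTower.of_algebraMap_eq' rfl
  haveI : Module.FaithfullyFlat (X.presheaf.stalk (g' x')) (X'.presheaf.stalk x') :=
    FpqcDescent.faithfullyFlat_stalkMap g' x' (GrpSch.flat_stalkMap_of_isPullback hc.flip x' hg)
  letI := FlatMod.moduleStalkOver f F (g' x')
  haveI : IsScalarTower (S.presheaf.stalk s) (X.presheaf.stalk (g' x')) (F.presheaf.stalk (g' x')) :=
    .of_algebraMap_smul fun r m => rfl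
  suffices Module.Flat (S.presheaf.stalk s)
      (X'.presheaf.stalk x' ⊗[X.presheaf.stalk (g' x')] F.presheaf.stalk (g' x')) from
    flat_of_flat_baseChange (S.presheaf.stalk s) (X.presheaf.stalk (g' x')) (X'.presheaf.stalk x')
      (F.presheaf.stalk (g' x'))
  let φB : S.presheaf.stalk s ⟶ S'.presheaf.stalk (f' x') :=
    (S.presheaf.stalkCongr (.of_eq h2)).inv ≫ g.stalkMap (f' x')
  have hsq : φA ≫ φC = φB ≫ f'.stalkMap x' := by
    rw [← cancel_epi (S.presheaf.stalkCongr (.of_eq h2)).hom]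
    apply Spec.map_injective
    rw [← cancel_mono (S.fromSpecStalk _)]
    simp [φA, φC, φB, s, hc.w]
  letI : Algebra (S.presheaf.stalk s) (S'.presheaf.stalk (f' x')) := φB.hom.toAlgebra
  let P := (Scheme.Modules.pullback g').obj F
  let e : P.presheaf.stalk x' ≃ₗ[X'.presheaf.stalk x']
      X'.presheaf.stalk x' ⊗[X.presheaf.stalk (g' x')] F.presheaf.stalk (g' x') :=
    ((DCohBridge.stalkPullIso g' x').app F).toLinearEquiv
  letI := FlatMod.moduleStalkOver f' P x'
  letI : Module (S.presheaf.stalk s) (P.presheaf.stalk x') :=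
    Module.compHom _ (φB ≫ f'.stalkMap x').hom
  haveI : IsScalarTower (S.presheaf.stalk s) (S'.presheaf.stalk (f' x')) (P.presheaf.stalk x') :=
    .of_algebraMap_smul fun r m => rfl
  haveI : Module.Flat (S'.presheaf.stalk (f' x')) (P.presheaf.stalk x') := h
  haveI : Module.Flat (S.presheaf.stalk s) (S'.presheaf.stalk (f' x')) := by
    refine RingHom.flat_algebraMap_iff.1 ?_
    show φB.hom.Flat
    rw [CommRingCat.hom_comp]
    exact RingHom.Flat.comp (RingHom.Flat.of_bijective
      (ConcreteCategory.bijective_of_isIso (S.presheaf.stalkCongr (.of_eq h2)).inv)) hg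
  haveI := Module.Flat.trans (S.presheaf.stalk s) (S'.presheaf.stalk (f' x')) (P.presheaf.stalk x')
  refine Module.Flat.of_linearEquiv
    ({ e.toAddEquiv with map_smul' := fun r m => ?_ } :
      P.presheaf.stalk x' ≃ₗ[S.presheaf.stalk s]
        X'.presheaf.stalk x' ⊗[X.presheaf.stalk (g' x')] F.presheaf.stalk (g' x')).symm
  show e ((φB ≫ f'.stalkMap x').hom r • m) = r • e m
  rw [map_smul, ← hsq]
  exact algebraMap_smul (X'.presheaf.stalk x') r (e m)

end Groth.Agent.FlatOverBC
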