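import Groth.Agent.FlatOverBC.Fibre
import Groth.Agent.TensorMod.FinLocFree

/-!
Flat finitely presented modules are free near a point.
-/

set_option autoImplicit false
set_option linter.style.haveILetI false

noncomputable section

namespace Groth.Agent.FlatOverBC

open CategoryTheory AlgebraicGeometry Opposite TopologicalSpace
open Groth.Agent.QCohBase Groth.Agent.FlatOver

universe u

variable {X : Scheme.{u}}

/-- A quasi-coherent module with free sections on an affine open is free there. -/
theorem nonempty_iso_freeMod_of_basis (M : X.Modules) [M.IsQuasicoherent] {U : X.Opens}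
    (hU : IsAffineOpen U) {n : ℕ} (b : Module.Basis (Fin n) Γ(X, U) Γ(M, U)) :
    Nonempty (M.restrict U.ι ≅ FlatMod.freeMod (U : Scheme.{u}) n) := by
  let N : ModuleCat.{u} Γ(X, U) :=
    (modulesSpecToSheaf.obj (M.restrict hU.fromSpec)).presheaf.obj (op ⊤)
  let e₀ : N ≅ ModuleCat.of Γ(X, U) (ULift.{u} (Fin n) →₀ Γ(X, U)) :=
    ((sectionsEquiv M hU).trans
      (b.repr.trans (Finsupp.domLCongr Equiv.ulift.symm))).toModuleIso
  haveI hi : IsIso (M.restrict hU.fromSpec).fromTildeΓ := inferInstance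
  let e₁ : M.restrict hU.fromSpec ≅ FlatMod.freeMod (Spec Γ(X, U)) n :=
    (@asIso _ _ _ _ (M.restrict hU.fromSpec).fromTildeΓ hi).symm ≪≫
      (tilde.functor Γ(X, U)).mapIso e₀ ≪≫ tildeFinsupp _ ≪≫ (TensorMod.freeModIso _ n).symm
  exact ⟨(((Scheme.Modules.restrictFunctorComp hU.isoSpec.hom hU.fromSpec).symm ≪≫
      Scheme.Modules.restrictFunctorCongr hU.isoSpec_hom_fromSpec).app M).symm ≪≫
    (Scheme.Modules.restrictFunctor hU.isoSpec.hom).mapIso e₁ ≪≫
    TensorMod.restrictFreeModIso hU.isoSpec.hom n⟩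

/-- Sections on a basic open are the localised sections. -/
theorem isLocalizedModule_mres (M : X.Modules) [M.IsQuasicoherent] {U : X.Opens}
    (hU : IsAffineOpen U) (r : Γ(X, U)) :
    letI : Module Γ(X, U) Γ(M, X.basicOpen r) := Module.compHom _ (ores (X.basicOpen_le r))
    IsLocalizedModule (Submonoid.powers r)
      ({ toFun := mres M (X.basicOpen_le r)
         map_add' := map_add _
         map_smul' := mres_smul M (X.basicOpen_le r) } : Γ(M, U) →ₗ[Γ(X, U)] Γ(M, X.basicOpen r)) := by
  letI : Module Γ(X, U) Γ(M, X.basicOpen r) := Module.compHom _ (ores (X.basicOpen_le r))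
  refine IsLocalizedModule.Away.mk_of_addCommGroup ?_ (fun x => ?_) (fun x hx => ?_)
  · obtain ⟨v, hv⟩ : IsUnit (ores (X.basicOpen_le r) r) := X.toRingedSpace.isUnit_res_basicOpen r
    rw [Module.End.isUnit_iff]
    have hsm : ∀ z : Γ(M, X.basicOpen r), r • z = v.1 • z := fun z => by rw [hv]; rfl
    refine ⟨fun a c hac => ?_, fun c => ⟨v⁻¹.1 • c, ?_⟩⟩
    · have h1 : v.1 • a = v.1 • c := (hsm a).symm.trans (Eq.trans hac (hsm c))
      have h2 := congrArg (fun z ↦ v⁻¹.1 • z) h1
      simpa [← mul_smul] using h2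
    · refine (hsm _).trans ?_
      show v.1 • (v⁻¹.1 • c) = c
      rw [← mul_smul, Units.mul_inv, one_smul]
  · obtain ⟨n, y, hy⟩ := exists_pow_smul_eq_mres M hU r rfl (X.basicOpen_le r) x
    refine ⟨n, y, ?_⟩
    show ores (X.basicOpen_le r) (r ^ n) • x = mres M (X.basicOpen_le r) y
    rw [map_pow, hy]
  · exact exists_pow_smul_eq_zero M hU r rfl (X.basicOpen_le r) x hx

/-- A finitely presented module flat at a point is free near that point. -/
theorem exists_iso_freeMod (M : X.Modules) [M.IsQuasicoherent] (hM : CohB1.IsFP M) (x : X)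
    (h : Module.Flat (X.presheaf.stalk x) (M.presheaf.stalk x)) :
    ∃ (U : X.Opens) (n : ℕ), x ∈ U ∧ Nonempty (M.restrict U.ι ≅ FlatMod.freeMod (U : Scheme.{u}) n) := by
  obtain ⟨W, hxW, hW⟩ := exists_affine_finitePresentation M hM x
  obtain ⟨_, ⟨U, hU, rfl⟩, hxU, hle⟩ :=
    X.isBasis_affineOpens.exists_subset_of_mem_open hxW W.2
  haveI := hW U hU hle
  let C := Γ(X, U)
  let O := X.presheaf.stalk x
  letI : Algebra C O := X.presheaf.algebra_section_stalk ⟨x, hxU⟩
  let S := (hU.primeIdealOf ⟨x, hxU⟩).asIdeal.primeCompl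
  haveI : IsLocalization S O := hU.isLocalization_stalk ⟨x, hxU⟩
  letI := germModule M x hxU
  haveI : IsScalarTower C O (M.presheaf.stalk x) := .of_algebraMap_smul fun _ _ => rfl
  haveI := isLocalizedModule_germₗ M hU x hxU
  haveI : Module.Finite O (M.presheaf.stalk x) :=
    Module.Finite.of_isLocalizedModule S (Rₚ := O) (germₗ M x hxU)
  haveI := h
  haveI : Module.Free O (M.presheaf.stalk x) := Module.free_of_flat_of_isLocalRing
  obtain ⟨r, hr, hfree, -⟩ :=
    Module.FinitePresentation.exists_free_localizedModule_powers S (germₗ M x hxU) O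
  let D := X.basicOpen r
  letI : Algebra C Γ(X, D) := (ores (X.basicOpen_le r)).toAlgebra
  haveI : IsLocalization.Away r Γ(X, D) := hU.isLocalization_basicOpen r
  letI : Module C Γ(M, D) := Module.compHom _ (ores (X.basicOpen_le r))
  haveI := isLocalizedModule_mres M hU r
  let L := Localization (Submonoid.powers r)
  let σ : L ≃ₐ[C] Γ(X, D) := IsLocalization.algEquiv (Submonoid.powers r) L Γ(X, D)
  letI : Module L Γ(M, D) := Module.compHom _ (σ : L →+* Γ(X, D))
  haveI : IsScalarTower C L Γ(M, D) := .of_algebraMap_smul fun c z => by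
    show σ (algebraMap C L c) • z = ores (X.basicOpen_le r) c • z
    rw [σ.commutes]
    rfl
  let e : LocalizedModule.Away r Γ(M, U) ≃ₗ[L] Γ(M, D) :=
    LinearEquiv.extendScalarsOfIsLocalization (Submonoid.powers r) L
      (IsLocalizedModule.iso (Submonoid.powers r)
        ({ toFun := mres M (X.basicOpen_le r)
           map_add' := map_add _
           map_smul' := mres_smul M (X.basicOpen_le r) } : Γ(M, U) →ₗ[C] Γ(M, D)))
  have hxD : x ∈ D := by
    rw [X.mem_basicOpen r x hxU]
    exact IsLocalization.map_units O (M := S) ⟨r, hr⟩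
  haveI : Nontrivial L := by
    haveI : Nontrivial Γ(X, D) := (X.presheaf.germ D x hxD).hom.domain_nontrivial
    exact σ.toEquiv.nontrivial
  haveI : Module.Finite L (LocalizedModule.Away r Γ(M, U)) :=
    Module.Finite.of_isLocalizedModule (Submonoid.powers r) (Rₚ := L) (LocalizedModule.mkLinearMap _ _)
  let b := (Module.finBasis L (LocalizedModule.Away r Γ(M, U))).map e
  let b' : Module.Basis _ Γ(X, D) Γ(M, D) := b.mapCoeffs σ.toRingEquiv fun c z => rfl
  exact ⟨D, _, hxD, nonempty_iso_freeMod_of_basis M (hU.basicOpen r) b'⟩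

end Groth.Agent.FlatOverBC
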