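import Groth.Agent.FpqcDescent.Ideals
import Mathlib.AlgebraicGeometry.Fiber
import Mathlib.AlgebraicGeometry.PullbackCarrier
import Mathlib.RingTheory.EssentialFiniteness
import Mathlib.RingTheory.RingHom.EssFiniteType

/-!
Locally Noetherian fibres and base change.
-/

set_option autoImplicit false
set_option linter.style.haveILetI false
set_option backward.isDefEq.respectTransparency.types false

namespace Groth.Agent.FlatOverBC

open CategoryTheory Limits AlgebraicGeometry TensorProduct

universe u

/-- Local Noetherianity is preserved by base change essentially of finite type. -/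
theorem isLocallyNoetherian_of_isPullback_spec {k K : CommRingCat.{u}} (φ : k ⟶ K)
    (hφ : φ.hom.EssFiniteType) {W V : Scheme.{u}} {a : W ⟶ V} {b : W ⟶ Spec K} {c : V ⟶ Spec k}
    (h : IsPullback a b c (Spec.map φ)) [IsLocallyNoetherian V] : IsLocallyNoetherian W := by
  haveI : IsLocallyNoetherian (pullback c (Spec.map φ)) := by
    rw [isLocallyNoetherian_iff_openCover
      (Scheme.Pullback.openCoverOfLeft V.affineOpenCover.openCover c (Spec.map φ))]
    intro i
    haveI : IsLocallyNoetherian (Spec (V.affineOpenCover.X i)) :=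
      isLocallyNoetherian_of_isOpenImmersion (V.affineOpenCover.f i)
    haveI : IsNoetherianRing (V.affineOpenCover.X i) := isLocallyNoetherian_Spec.1 inferInstance
    let ψ : k ⟶ V.affineOpenCover.X i := Spec.preimage (V.affineOpenCover.f i ≫ c)
    letI : Algebra k (V.affineOpenCover.X i) := ψ.hom.toAlgebra
    letI : Algebra k K := φ.hom.toAlgebra
    haveI : Algebra.EssFiniteType k K := hφ
    haveI : IsNoetherianRing (V.affineOpenCover.X i ⊗[k] K) :=
      Algebra.EssFiniteType.isNoetherianRing (V.affineOpenCover.X i) _
    haveI : IsLocallyNoetherian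
        (pullback (Spec.map (CommRingCat.ofHom (algebraMap k (V.affineOpenCover.X i))))
          (Spec.map (CommRingCat.ofHom (algebraMap k K)))) :=
      isLocallyNoetherian_of_isOpenImmersion (pullbackSpecIso k (V.affineOpenCover.X i) K).hom
    have e : V.affineOpenCover.f i ≫ c =
        Spec.map (CommRingCat.ofHom (algebraMap k (V.affineOpenCover.X i))) :=
      (Spec.map_preimage _).symm
    exact isLocallyNoetherian_of_isOpenImmersion (pullback.congrHom e rfl).hom
  exact isLocallyNoetherian_of_isOpenImmersion h.isoPullback.hom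

variable {X Y X' Y' : Scheme.{u}} {f : X ⟶ Y} {f' : X' ⟶ Y'} {g' : X' ⟶ X} {g : Y' ⟶ Y}

/-- The fibre of a base change is the base change of the fibre to the residue field. -/
theorem exists_isPullback_fiber (hc : IsPullback g' f' f g) (y' : Y') :
    ∃ a : f'.fiber y' ⟶ f.fiber (g y'), IsPullback a (f'.fiberToSpecResidueField y')
      (f.fiberToSpecResidueField (g y')) (Spec.map (g.residueFieldMap y')) := by
  let a : f'.fiber y' ⟶ f.fiber (g y') :=
    pullback.lift (f'.fiberι y' ≫ g') (f'.fiberToSpecResidueField y' ≫ Spec.map (g.residueFieldMap y')) (by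
      rw [Category.assoc, hc.w, Category.assoc, Scheme.Hom.SpecMap_residueFieldMap_fromSpecResidueField,
        ← Category.assoc, ← Category.assoc]
      exact congrArg (· ≫ g) pullback.condition)
  refine ⟨a, IsPullback.of_right (h₁₂ := f.fiberι (g y')) (v₁₃ := f) (h₂₂ := Y.fromSpecResidueField (g y'))
    ?_ (pullback.lift_snd _ _ _) (IsPullback.of_hasPullback f _)⟩
  rw [Scheme.Hom.SpecMap_residueFieldMap_fromSpecResidueField]
  have := (IsPullback.of_hasPullback f' (Y'.fromSpecResidueField y')).paste_horiz hc
  rw [show a ≫ f.fiberι (g y') = f'.fiberι y' ≫ g' from pullback.lift_fst _ _ _]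
  exact this

theorem essFiniteType_residueFieldMap (g : Y' ⟶ Y) [LocallyOfFiniteType g] (y' : Y') :
    (g.residueFieldMap y').hom.EssFiniteType := by
  letI : Algebra (Y.presheaf.stalk (g y')) (Y'.presheaf.stalk y') := (g.stalkMap y').hom.toAlgebra
  haveI : IsLocalHom (algebraMap (Y.presheaf.stalk (g y')) (Y'.presheaf.stalk y')) :=
    inferInstanceAs (IsLocalHom (g.stalkMap y').hom)
  haveI : Algebra.EssFiniteType (Y.presheaf.stalk (g y')) (Y'.presheaf.stalk y') :=
    LocallyOfFiniteType.stalkMap g y'
  haveI : Algebra.EssFiniteType (Y.presheaf.stalk (g y'))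
      (IsLocalRing.ResidueField (Y'.presheaf.stalk y')) :=
    Algebra.EssFiniteType.comp _ (Y'.presheaf.stalk y') _
  have h := Algebra.EssFiniteType.of_comp (Y.presheaf.stalk (g y'))
    (IsLocalRing.ResidueField (Y.presheaf.stalk (g y'))) (IsLocalRing.ResidueField (Y'.presheaf.stalk y'))
  have e : algebraMap (IsLocalRing.ResidueField (Y.presheaf.stalk (g y')))
      (IsLocalRing.ResidueField (Y'.presheaf.stalk y')) =
        IsLocalRing.ResidueField.map (g.stalkMap y').hom :=
    Ideal.Quotient.ringHom_ext (RingHom.ext fun r => rfl)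
  have h' := RingHom.essFiniteType_algebraMap.2 h
  rw [e] at h'
  exact h'

theorem isLocallyNoetherian_fiber_baseChange [LocallyOfFiniteType g] (hc : IsPullback g' f' f g)
    (y' : Y') [IsLocallyNoetherian (f.fiber (g y'))] : IsLocallyNoetherian (f'.fiber y') := by
  obtain ⟨a, ha⟩ := exists_isPullback_fiber hc y'
  exact isLocallyNoetherian_of_isPullback_spec _ (essFiniteType_residueFieldMap g y') ha

theorem isLocallyNoetherian_fiber_of_baseChange (hc : IsPullback g' f' f g) (y' : Y')
    [IsLocallyNoetherian (f'.fiber y')] : IsLocallyNoetherian (f.fiber (g y')) := by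
  obtain ⟨a, ha⟩ := exists_isPullback_fiber hc y'
  letI : Algebra (Y.residueField (g y')) (Y'.residueField y') := (g.residueFieldMap y').hom.toAlgebra
  have hflat : (g.residueFieldMap y').hom.Flat :=
    (inferInstance : Module.Flat (Y.residueField (g y')) (Y'.residueField y'))
  haveI : Flat (Spec.map (g.residueFieldMap y')) := (HasRingHomProperty.Spec_iff (P := @Flat)).2 hflat
  haveI : Surjective (Spec.map (g.residueFieldMap y')) := ⟨fun x =>
    ⟨Classical.choice (inferInstanceAs (Nonempty (PrimeSpectrum (Y'.residueField y')))),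
      Subsingleton.elim (α := PrimeSpectrum (Y.residueField (g y'))) _ _⟩⟩
  haveI : Flat a := MorphismProperty.of_isPullback ha.flip inferInstance
  haveI : Surjective a := MorphismProperty.of_isPullback ha.flip inferInstance
  haveI : QuasiCompact a := MorphismProperty.of_isPullback ha.flip inferInstance
  exact FpqcDescent.isLocallyNoetherian_of_flat_surjective_quasiCompact a

end Groth.Agent.FlatOverBC
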