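import Groth.Agent.QCohBase.FPSections
import Groth.Agent.FlatOver.Basic
import Groth.Agent.FlatLocus.Model

/-!
Openness of the flat locus of a finitely presented module.
-/

set_option autoImplicit false
set_option linter.style.haveILetI false

noncomputable section

namespace Groth.Agent.FlatOverBC

open CategoryTheory AlgebraicGeometry Opposite TopologicalSpace
open Groth.Agent.QCohBase Groth.Agent.FlatOver

universe u

variable {X S : Scheme.{u}}

/-- Flatness at a point in terms of the localised sections. -/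
theorem isFlatOverAt_iff_localized (f : X ⟶ S) (M : X.Modules) [M.IsQuasicoherent] {U : X.Opens}
    {V : S.Opens} (e : U ≤ f ⁻¹ᵁ V) (hU : IsAffineOpen U) (hV : IsAffineOpen V) (x : X) (hx : x ∈ U) :
    letI : Algebra Γ(S, V) Γ(X, U) := (f.appLE V U e).hom.toAlgebra
    letI := baseModule f M e
    haveI : IsScalarTower Γ(S, V) Γ(X, U) Γ(M, U) := .of_algebraMap_smul fun _ _ ↦ rfl
    FlatMod.IsFlatOverAt f M x ↔
      Module.Flat Γ(S, V) (LocalizedModule (hU.primeIdealOf ⟨x, hx⟩).asIdeal.primeCompl Γ(M, U)) := by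
  letI : Algebra Γ(S, V) Γ(X, U) := (f.appLE V U e).hom.toAlgebra
  letI := baseModule f M e
  haveI : IsScalarTower Γ(S, V) Γ(X, U) Γ(M, U) := .of_algebraMap_smul fun _ _ ↦ rfl
  rw [isFlatOverAt_iff f M e hV x hx]
  letI := germModule M x hx
  letI : Module Γ(S, V) (M.presheaf.stalk x) :=
    Module.compHom _ ((f.appLE V U e) ≫ X.presheaf.germ U x hx).hom
  haveI : IsScalarTower Γ(S, V) Γ(X, U) (M.presheaf.stalk x) := .of_algebraMap_smul fun _ _ ↦ rfl
  haveI := isLocalizedModule_germₗ M hU x hx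
  exact (Module.Flat.equiv_iff
    ((IsLocalizedModule.iso (hU.primeIdealOf ⟨x, hx⟩).asIdeal.primeCompl (germₗ M x hx)).restrictScalars
      Γ(S, V))).symm

/-- The flat locus of a finitely presented module is open. -/
theorem isOpen_isFlatOverAt (f : X ⟶ S) [LocallyOfFinitePresentation f] (F : X.Modules)
    [F.IsQuasicoherent] (hF : CohB1.IsFP F) : IsOpen {x : X | FlatMod.IsFlatOverAt f F x} := by
  rw [isOpen_iff_forall_mem_open]
  intro x hx
  obtain ⟨W, hxW, hW⟩ := exists_affine_finitePresentation F hF x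
  obtain ⟨_, ⟨V, hV, rfl⟩, hfx, -⟩ :=
    S.isBasis_affineOpens.exists_subset_of_mem_open (Set.mem_univ (f x)) isOpen_univ
  obtain ⟨_, ⟨U, hU, rfl⟩, hxU, hle⟩ :=
    X.isBasis_affineOpens.exists_subset_of_mem_open (show x ∈ W ⊓ f ⁻¹ᵁ V from ⟨hxW, hfx⟩) (W ⊓ f ⁻¹ᵁ V).2
  have e : U ≤ f ⁻¹ᵁ V := fun y hy => (hle hy).2
  haveI := hW U hU fun y hy => (hle hy).1
  letI : Algebra Γ(S, V) Γ(X, U) := (f.appLE V U e).hom.toAlgebra
  letI := baseModule f F e
  haveI : IsScalarTower Γ(S, V) Γ(X, U) Γ(F, U) := .of_algebraMap_smul fun _ _ ↦ rfl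
  haveI : Algebra.FinitePresentation Γ(S, V) Γ(X, U) :=
    Scheme.Hom.finitePresentation_appLE f hV hU e
  refine ⟨hU.fromSpec '' {q | Module.Flat Γ(S, V) (LocalizedModule q.asIdeal.primeCompl Γ(F, U))},
    ?_, hU.fromSpec.isOpenEmbedding.isOpenMap _ FlatLocus.isOpen_flatLocus, hU.primeIdealOf ⟨x, hxU⟩,
    (isFlatOverAt_iff_localized f F e hU hV x hxU).1 hx, hU.fromSpec_primeIdealOf _⟩
  rintro _ ⟨q, hq, rfl⟩
  have hy : hU.fromSpec q ∈ U := hU.range_fromSpec.le ⟨q, rfl⟩
  have heq : hU.primeIdealOf ⟨_, hy⟩ = q :=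
    hU.fromSpec.isOpenEmbedding.injective (hU.fromSpec_primeIdealOf _)
  refine (isFlatOverAt_iff_localized f F e hU hV _ hy).2 ?_
  rw [heq]
  exact hq

end Groth.Agent.FlatOverBC
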