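import Groth.Agent.FlatOverBC.Open
import Groth.Agent.FlatLocus.General
import Groth.Agent.FlatSlice.Seq

/-!
The fibrewise criterion of flatness for modules on schemes.
-/

set_option autoImplicit false
set_option linter.style.haveILetI false

noncomputable section

namespace Groth.Agent.FlatOverBC

open CategoryTheory AlgebraicGeometry Opposite TopologicalSpace TensorProduct
open Groth.Agent.QCohBase Groth.Agent.FlatOver

universe u

/-- The relative flatness hypothesis from flatness of the reduction of a stalk. -/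
theorem relFlat_of_localization {A B O F : Type u} [CommRing A] [CommRing B] [CommRing O]
    [Algebra A B] [Algebra B O] (N : Submonoid B) [IsLocalization N O] [AddCommGroup F] [Module O F]
    [Module B F] [IsScalarTower B O F] (p : Ideal A) (J : Ideal O)
    (hJ : J = (p.map (algebraMap A B)).map (algebraMap B O))
    (h : Module.Flat (O ⧸ J) (F ⧸ J • (⊤ : Submodule O F))) :
    FlatLocus.RelFlat A p B F := by
  subst hJ
  rw [FlatLocus.relFlat_iff_flat_quotient]
  let I := p.map (algebraMap A B)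
  let J := I.map (algebraMap B O)
  let Q := F ⧸ J • (⊤ : Submodule O F)
  haveI : Module.Flat (O ⧸ J) Q := h
  letI : Module (B ⧸ I) Q := Module.compHom Q (algebraMap (B ⧸ I) (O ⧸ J))
  haveI : IsScalarTower (B ⧸ I) (O ⧸ J) Q := IsScalarTower.of_algebraMap_smul fun _ _ => rfl
  haveI : Module.Flat (B ⧸ I) (O ⧸ J) :=
    IsLocalization.flat (O ⧸ J) (Algebra.algebraMapSubmonoid (B ⧸ I) N)
  haveI : Module.Flat (B ⧸ I) Q := Module.Flat.trans (B ⧸ I) (O ⧸ J) Q
  have hset : I • (⊤ : Submodule B F) = (J • (⊤ : Submodule O F)).restrictScalars B :=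
    SetLike.ext fun z => (FlatSlice.mem_map_smul_top_iff I z).symm
  let e : ((B ⧸ I) ⊗[B] F) ≃ₗ[B] Q :=
    TensorProduct.quotTensorEquivQuotSMul F I ≪≫ₗ Submodule.quotEquivOfEq _ _ hset ≪≫ₗ
      Submodule.Quotient.restrictScalarsEquiv B _
  haveI : IsScalarTower B (B ⧸ I) Q := IsScalarTower.of_algebraMap_smul fun b z => by
    induction z using Submodule.Quotient.induction_on with
    | _ m => exact congrArg Submodule.Quotient.mk (algebraMap_smul O b m)
  exact Module.Flat.of_linearEquiv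
    (e.extendScalarsOfSurjective Ideal.Quotient.mk_surjective)

variable {X Y S : Scheme.{u}}

/-- The fibrewise criterion of flatness at a point. -/
theorem isFlatOverAt_of_fibre (f : X ⟶ Y) (g : Y ⟶ S) [LocallyOfFinitePresentation (f ≫ g)]
    [LocallyOfFiniteType g] (F : X.Modules) [F.IsQuasicoherent] (hF : CohB1.IsFP F) (x : X)
    (h1 : FlatMod.IsFlatOverAt (f ≫ g) F x)
    (h2 : letI := FlatMod.moduleStalkOver f F x
      Module.Flat (Y.presheaf.stalk (f x) ⧸
          Ideal.map (g.stalkMap (f x)).hom (IsLocalRing.maximalIdeal (S.presheaf.stalk (g (f x)))))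
        (F.presheaf.stalk x ⧸
          Ideal.map (g.stalkMap (f x)).hom (IsLocalRing.maximalIdeal (S.presheaf.stalk (g (f x)))) •
            (⊤ : Submodule (Y.presheaf.stalk (f x)) (F.presheaf.stalk x)))) :
    FlatMod.IsFlatOverAt f F x := by
  obtain ⟨W₀, hxW₀, hW₀⟩ := exists_affine_finitePresentation F hF x
  obtain ⟨_, ⟨V, hV, rfl⟩, hsV, -⟩ :=
    S.isBasis_affineOpens.exists_subset_of_mem_open (Set.mem_univ (g (f x))) isOpen_univ
  obtain ⟨_, ⟨W, hW, rfl⟩, hyW, eg⟩ :=
    Y.isBasis_affineOpens.exists_subset_of_mem_open (show f x ∈ g ⁻¹ᵁ V from hsV) (g ⁻¹ᵁ V).2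
  obtain ⟨_, ⟨U, hU, rfl⟩, hxU, hle⟩ :=
    X.isBasis_affineOpens.exists_subset_of_mem_open (show x ∈ W₀ ⊓ f ⁻¹ᵁ W from ⟨hxW₀, hyW⟩)
      (W₀ ⊓ f ⁻¹ᵁ W).2
  have ef : U ≤ f ⁻¹ᵁ W := fun z hz => (hle hz).2
  have eg' : W ≤ g ⁻¹ᵁ V := eg
  have efg : U ≤ (f ≫ g) ⁻¹ᵁ V := fun z hz => eg' (ef hz)
  haveI := hW₀ U hU fun z hz => (hle hz).1
  let A := Γ(S, V)
  let B := Γ(Y, W)
  let C := Γ(X, U)
  let φ := g.appLE V W eg'
  let ψ := f.appLE W U ef
  letI : Algebra A B := φ.hom.toAlgebra
  letI : Algebra B C := ψ.hom.toAlgebra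
  letI : Algebra A C := ((f ≫ g).appLE V U efg).hom.toAlgebra
  haveI : IsScalarTower A B C := IsScalarTower.of_algebraMap_eq' (by
    show ((f ≫ g).appLE V U efg).hom = ψ.hom.comp φ.hom
    rw [← CommRingCat.hom_comp, Scheme.Hom.appLE_comp_appLE])
  haveI : Algebra.FinitePresentation A C := Scheme.Hom.finitePresentation_appLE (f ≫ g) hV hU efg
  haveI : Algebra.FiniteType A B := Scheme.Hom.finiteType_appLE g hV hW eg'
  letI : Module A Γ(F, U) := baseModule (f ≫ g) F efg
  letI : Module B Γ(F, U) := baseModule f F ef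
  haveI : IsScalarTower A C Γ(F, U) := .of_algebraMap_smul fun _ _ => rfl
  haveI : IsScalarTower B C Γ(F, U) := .of_algebraMap_smul fun _ _ => rfl
  let q := hU.primeIdealOf ⟨x, hxU⟩
  rw [isFlatOverAt_iff_localized (f ≫ g) F efg hU hV x hxU] at h1
  rw [isFlatOverAt_iff_localized f F ef hU hW x hxU]
  haveI := h1
  rcases subsingleton_or_nontrivial (LocalizedModule q.asIdeal.primeCompl Γ(F, U)) with _ | _
  · exact inferInstance
  refine (FlatLocus.fibre_criterion (R := A) (S := B) (S' := C) (M := Γ(F, U)) q.asIdeal ?_).1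
  -- the stalk
  letI := germModule F x hxU
  letI := FlatMod.moduleStalkOver f F x
  letI : Algebra B (Y.presheaf.stalk (f x)) := Y.presheaf.algebra_section_stalk ⟨f x, hyW⟩
  haveI : IsLocalization.AtPrime (Y.presheaf.stalk (f x)) (hW.primeIdealOf ⟨f x, hyW⟩).asIdeal :=
    hW.isLocalization_stalk ⟨f x, hyW⟩
  letI : Module B (F.presheaf.stalk x) := Module.compHom _ (ψ ≫ X.presheaf.germ U x hxU).hom
  haveI : IsScalarTower B C (F.presheaf.stalk x) := .of_algebraMap_smul fun _ _ => rfl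
  haveI : IsScalarTower B (Y.presheaf.stalk (f x)) (F.presheaf.stalk x) :=
    .of_algebraMap_smul fun r z => congrArg (· • z) (germ_appLE_stalkMap f ef x hxU r)
  haveI := isLocalizedModule_germₗ F hU x hxU
  refine FlatLocus.RelFlat.congr ?_
    ((IsLocalizedModule.iso q.asIdeal.primeCompl (germₗ F x hxU)).symm.restrictScalars B)
  refine relFlat_of_localization (hW.primeIdealOf ⟨f x, hyW⟩).asIdeal.primeCompl _ _ ?_ h2
  letI : Algebra A (S.presheaf.stalk (g (f x))) := S.presheaf.algebra_section_stalk ⟨g (f x), hsV⟩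
  haveI : IsLocalization.AtPrime (S.presheaf.stalk (g (f x))) (hV.primeIdealOf ⟨g (f x), hsV⟩).asIdeal :=
    hV.isLocalization_stalk ⟨g (f x), hsV⟩
  have hp : q.asIdeal.comap (algebraMap A C) = (hV.primeIdealOf ⟨g (f x), hsV⟩).asIdeal :=
    congrArg PrimeSpectrum.asIdeal
      (IsAffineOpen.comap_primeIdealOf_appLE (f := f ≫ g) V hV U hU efg hxU)
  rw [hp, Ideal.map_map, ← IsLocalization.AtPrime.map_eq_maximalIdeal
    (hV.primeIdealOf ⟨g (f x), hsV⟩).asIdeal (S.presheaf.stalk (g (f x))), Ideal.map_map]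
  congr 1
  ext a
  exact germ_appLE_stalkMap g eg' (f x) hyW a

end Groth.Agent.FlatOverBC
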