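import Groth.Agent.FlatOverBC.Quot
import Groth.Agent.FlatOverBC.CMAlg
import Groth.Agent.GorenBasic.FlatLocal
import Groth.Agent.GorenBasic.FieldExt

/-!
Gorenstein fibres under base change: the algebra.
-/

set_option autoImplicit false
set_option linter.style.haveILetI false

namespace Groth.Agent.FlatOverBC

open TensorProduct IsLocalRing

universe u

/-- A flat local algebra, surjective on stalks, over a Gorenstein ring is Gorenstein. -/
theorem isGorensteinLocalRing_of_surjectiveOnStalks {T F : Type u} [CommRing T] [CommRing F]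
    [IsLocalRing F] [LocCoh.IsGorensteinRing T] (φ : T →+* F) (hfl : φ.Flat)
    (hs : φ.SurjectiveOnStalks) : LocCoh.IsGorensteinLocalRing F := by
  obtain ⟨e⟩ := nonempty_ringEquiv_localization φ hfl hs
  have := LocCoh.IsGorensteinRing.isGorensteinLocalRing_localization (A := T) ((maximalIdeal F).comap φ)
  exact GorenSG.gorenstein_of_ringEquiv e.symm this

/-- Gorenstein-ness of a fibre is insensitive to base change. -/
theorem isGorensteinLocalRing_fibre_iff {O A B C : Type u} [CommRing O] [CommRing A] [CommRing B]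
    [CommRing C] [IsLocalRing O] [IsLocalRing A] [IsLocalRing B] [IsLocalRing C] [Algebra O A]
    [Algebra O B] [IsLocalHom (algebraMap O A)] [IsLocalHom (algebraMap O B)]
    (ψ : A ⊗[O] B →+* C) (hψ : ψ.Flat) (hψs : ψ.SurjectiveOnStalks)
    (fA : A →+* C) (fB : B →+* C) [IsLocalHom fA] [IsLocalHom fB]
    (hA : ∀ a, ψ (a ⊗ₜ 1) = fA a) (hB : ∀ b, ψ (1 ⊗ₜ b) = fB b)
    (hNA : IsNoetherianRing (A ⧸ (maximalIdeal O).map (algebraMap O A)))
    (hNC : IsNoetherianRing (C ⧸ (maximalIdeal B).map fB))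
    (hfg : Algebra.EssFiniteType (ResidueField O) (ResidueField A) ∨
        Algebra.EssFiniteType (ResidueField O) (ResidueField B)) :
    LocCoh.IsGorensteinLocalRing (C ⧸ (maximalIdeal B).map fB) ↔
      LocCoh.IsGorensteinLocalRing (A ⧸ (maximalIdeal O).map (algebraMap O A)) := by
  classical
  let κ := ResidueField O
  let L := ResidueField A
  let K := ResidueField B
  let I := (maximalIdeal O).map (algebraMap O A)
  let I' := (maximalIdeal B).map fB
  have hleA : (maximalIdeal A).map fA ≤ maximalIdeal C :=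
    Ideal.map_le_iff_le_comap.2 fun a ha hu => ha ((isUnit_map_iff fA a).1 hu)
  have hleB : I' ≤ maximalIdeal C :=
    Ideal.map_le_iff_le_comap.2 fun b hb hu => hb ((isUnit_map_iff fB b).1 hu)
  have hIA : I ≤ maximalIdeal A :=
    Ideal.map_le_iff_le_comap.2 fun r hr hu => hr ((isUnit_map_iff _ r).1 hu)
  have hfsq : ∀ r, fA (algebraMap O A r) = fB (algebraMap O B r) := fun r => by
    rw [← hA, ← hB, Algebra.algebraMap_eq_smul_one, TensorProduct.smul_tmul,
      ← Algebra.algebraMap_eq_smul_one]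
  have hle : I ≤ I'.comap fA := Ideal.map_le_iff_le_comap.2 fun r hr => by
    rw [Ideal.mem_comap, Ideal.mem_comap, hfsq]
    exact Ideal.mem_map_of_mem _ fun hu => hr ((isUnit_map_iff _ r).1 hu)
  let A₀ := A ⧸ I
  let C₀ := C ⧸ I'
  haveI : IsLocalRing A₀ := FlatLocalDepth.isLocalRing_quotient hIA
  haveI : IsLocalRing C₀ := FlatLocalDepth.isLocalRing_quotient hleB
  letI : Algebra A₀ C₀ := (Ideal.quotientMap I' fA hle).toAlgebra
  haveI : Module.Flat A₀ C₀ := flat_quotientMap_of_tensor ψ hψ fA fB hA hB hle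
  haveI : IsLocalHom (Ideal.Quotient.mk I') := IsLocalHom.of_surjective _ Ideal.Quotient.mk_surjective
  haveI : IsLocalHom (algebraMap A₀ C₀) := ⟨fun a ha => by
    obtain ⟨a, rfl⟩ := Ideal.Quotient.mk_surjective a
    exact ((isUnit_map_iff fA a).1 ((isUnit_map_iff (Ideal.Quotient.mk I') _).1 ha)).map _⟩
  refine (GorenBasic.isGorensteinLocalRing_iff_flat (A := A₀) (B := C₀)).trans ⟨And.left, fun h => ⟨h, ?_⟩⟩
  -- the closed fibre
  let N : Ideal C := (maximalIdeal A).map fA ⊔ I'
  let F := C ⧸ N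
  have hN : N ≤ maximalIdeal C := sup_le hleA hleB
  haveI : IsLocalRing F := FlatLocalDepth.isLocalRing_quotient hN
  suffices hF : LocCoh.IsGorensteinLocalRing F by
    haveI : IsLocalHom (Ideal.Quotient.mk I) := IsLocalHom.of_surjective _ Ideal.Quotient.mk_surjective
    refine GorenSG.gorenstein_of_ringEquiv (RingEquiv.symm
      ((Ideal.quotEquivOfEq (show N = I' ⊔ (maximalIdeal A).map fA from sup_comm _ _)).trans
        ((DoubleQuot.quotQuotEquivQuotSup I' ((maximalIdeal A).map fA)).symm.trans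
          (Ideal.quotEquivOfEq ?_)))) hF
    rw [← IsLocalRing.map_maximalIdeal_of_surjective _ (Ideal.Quotient.mk_surjective (I := I)),
      Ideal.map_map, Ideal.map_map]
    rfl
  haveI : IsNoetherianRing (L ⊗[κ] K) := by
    rcases hfg with hL | hK
    · haveI : Algebra.EssFiniteType κ L := hL
      haveI : IsNoetherianRing (K ⊗[κ] L) := Algebra.EssFiniteType.isNoetherianRing K (K ⊗[κ] L)
      exact isNoetherianRing_of_ringEquiv (K ⊗[κ] L) (Algebra.TensorProduct.comm κ K L).toRingEquiv
    · haveI : Algebra.EssFiniteType κ K := hK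
      exact Algebra.EssFiniteType.isNoetherianRing L (L ⊗[κ] K)
  haveI : LocCoh.IsGorensteinRing (L ⊗[κ] K) := GorenBasic.isGorensteinRing_tensor_fields κ L K hfg
  let T := A ⊗[O] B
  let J : Ideal T := (maximalIdeal A).map (Algebra.TensorProduct.includeLeftRingHom : A →+* T) ⊔
    (maximalIdeal B).map (Algebra.TensorProduct.includeRight : B →ₐ[O] T).toRingHom
  have hJ : J.map ψ = N := by
    rw [Ideal.map_sup, Ideal.map_map, Ideal.map_map]
    congr 2
    · ext a; exact hA a
    · ext b; exact hB b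
  let ψbar : T ⧸ J →+* F := Ideal.quotientMap N ψ (Ideal.map_le_iff_le_comap.1 hJ.le)
  have hψbar : ψbar.Flat := by
    letI : Algebra T C := ψ.toAlgebra
    haveI : Module.Flat T C := hψ
    letI : Algebra (T ⧸ J) F := ψbar.toAlgebra
    haveI : IsScalarTower T (T ⧸ J) F := ⟨fun t z w => by
      obtain ⟨z, rfl⟩ := Ideal.Quotient.mk_surjective (I := J) z
      obtain ⟨w, rfl⟩ := Ideal.Quotient.mk_surjective (I := N) w
      show Ideal.Quotient.mk N (ψ (t * z) * w) = Ideal.Quotient.mk N (ψ t * (ψ z * w))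
      rw [map_mul ψ, mul_assoc]⟩
    exact Module.Flat.of_linearEquiv (((TensorProduct.quotTensorEquivQuotSMul C J) ≪≫ₗ
      Submodule.quotEquivOfEq _ (N.restrictScalars T) (by
        rw [Ideal.smul_top_eq_map]; exact congrArg _ hJ) ≪≫ₗ
      Submodule.Quotient.restrictScalarsEquiv T N).extendScalarsOfSurjective
        Ideal.Quotient.mk_surjective).symm
  -- `T ⧸ J` is the tensor product of the residue fields
  let lA : L →+* T ⧸ J := Ideal.Quotient.lift _
    ((Ideal.Quotient.mk J).comp (Algebra.TensorProduct.includeLeftRingHom : A →+* T)) fun a ha =>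
      Ideal.Quotient.eq_zero_iff_mem.2 (Ideal.mem_sup_left (Ideal.mem_map_of_mem _ ha))
  let lB : K →+* T ⧸ J := Ideal.Quotient.lift _
    ((Ideal.Quotient.mk J).comp (Algebra.TensorProduct.includeRight : B →ₐ[O] T).toRingHom) fun b hb =>
      Ideal.Quotient.eq_zero_iff_mem.2 (Ideal.mem_sup_right (Ideal.mem_map_of_mem _ hb))
  have hlκ : lA.comp (algebraMap κ L) = lB.comp (algebraMap κ K) := by
    refine Ideal.Quotient.ringHom_ext (RingHom.ext fun r => ?_)
    show Ideal.Quotient.mk J ((algebraMap O A r) ⊗ₜ[O] (1 : B)) =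
      Ideal.Quotient.mk J ((1 : A) ⊗ₜ[O] (algebraMap O B r))
    rw [Algebra.algebraMap_eq_smul_one, TensorProduct.smul_tmul, ← Algebra.algebraMap_eq_smul_one]
  letI : Algebra κ (T ⧸ J) := (lA.comp (algebraMap κ L)).toAlgebra
  let σ : L ⊗[κ] K →ₐ[κ] T ⧸ J := Algebra.TensorProduct.lift
    { lA with commutes' := fun _ => rfl }
    { lB with commutes' := fun r => (RingHom.congr_fun hlκ r).symm }
    fun _ _ => Commute.all _ _
  let π : T →ₐ[O] L ⊗[κ] K := Algebra.TensorProduct.lift
    { (Algebra.TensorProduct.includeLeftRingHom : L →+* L ⊗[κ] K).comp (IsLocalRing.residue A) with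
      commutes' := fun r => rfl }
    { (Algebra.TensorProduct.includeRight : K →ₐ[κ] L ⊗[κ] K).toRingHom.comp (IsLocalRing.residue B) with
      commutes' := fun r => by
        show (1 : L) ⊗ₜ[κ] (algebraMap κ K (IsLocalRing.residue O r)) =
          algebraMap κ L (IsLocalRing.residue O r) ⊗ₜ[κ] (1 : K)
        rw [Algebra.algebraMap_eq_smul_one, ← TensorProduct.smul_tmul, ← Algebra.algebraMap_eq_smul_one] }
    fun _ _ => Commute.all _ _
  have hπJ : ∀ t ∈ J, π t = 0 := fun t ht => by
    have : J ≤ RingHom.ker π.toRingHom := sup_le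
      (Ideal.map_le_iff_le_comap.2 fun a ha => by
        show π (a ⊗ₜ[O] (1 : B)) = 0
        rw [Algebra.TensorProduct.lift_tmul]
        show ((IsLocalRing.residue A a) ⊗ₜ[κ] (1 : K)) * _ = 0
        rw [(IsLocalRing.residue_eq_zero_iff _).2 ha, TensorProduct.zero_tmul, zero_mul])
      (Ideal.map_le_iff_le_comap.2 fun b hb => by
        show π ((1 : A) ⊗ₜ[O] b) = 0
        rw [Algebra.TensorProduct.lift_tmul]
        simp [(IsLocalRing.residue_eq_zero_iff _).2 hb])
    exact this ht
  have hσπ : ∀ t, σ (π t) = Ideal.Quotient.mk J t := fun t => by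
    induction t using TensorProduct.induction_on with
    | zero => simp
    | add x y hx hy => simp only [map_add, hx, hy]
    | tmul a b =>
      rw [Algebra.TensorProduct.lift_tmul]
      show σ (((IsLocalRing.residue A a) ⊗ₜ[κ] (1 : K)) * ((1 : L) ⊗ₜ[κ] (IsLocalRing.residue B b))) = _
      rw [Algebra.TensorProduct.tmul_mul_tmul, mul_one, one_mul, Algebra.TensorProduct.lift_tmul]
      show Ideal.Quotient.mk J (a ⊗ₜ[O] (1 : B)) * Ideal.Quotient.mk J ((1 : A) ⊗ₜ[O] b) = _
      rw [← map_mul, Algebra.TensorProduct.tmul_mul_tmul, mul_one, one_mul]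
  have hπ : Function.Surjective π := fun z => by
    induction z using TensorProduct.induction_on with
    | zero => exact ⟨0, map_zero _⟩
    | add x y hx hy =>
      obtain ⟨x, rfl⟩ := hx
      obtain ⟨y, rfl⟩ := hy
      exact ⟨x + y, map_add _ _ _⟩
    | tmul l k =>
      obtain ⟨a, rfl⟩ := IsLocalRing.residue_surjective l
      obtain ⟨b, rfl⟩ := IsLocalRing.residue_surjective k
      refine ⟨a ⊗ₜ[O] b, ?_⟩
      rw [Algebra.TensorProduct.lift_tmul]
      show ((IsLocalRing.residue A a) ⊗ₜ[κ] (1 : K)) * ((1 : L) ⊗ₜ[κ] (IsLocalRing.residue B b)) = _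
      rw [Algebra.TensorProduct.tmul_mul_tmul, mul_one, one_mul]
  have hσ : Function.Bijective σ := ⟨fun x y hxy => by
      obtain ⟨x, rfl⟩ := hπ x
      obtain ⟨y, rfl⟩ := hπ y
      rw [hσπ, hσπ, Ideal.Quotient.eq] at hxy
      rw [← sub_eq_zero, ← map_sub]
      exact hπJ _ hxy,
    fun z => by
      obtain ⟨t, rfl⟩ := Ideal.Quotient.mk_surjective z
      exact ⟨π t, hσπ t⟩⟩
  refine isGorensteinLocalRing_of_surjectiveOnStalks (ψbar.comp σ.toRingHom)
    ((RingHom.Flat.of_bijective hσ).comp hψbar) ?_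
  refine RingHom.SurjectiveOnStalks.of_comp (f := π.toRingHom) ?_
  have : (ψbar.comp σ.toRingHom).comp π.toRingHom = (Ideal.Quotient.mk N).comp ψ :=
    RingHom.ext fun t => congrArg ψbar (hσπ t)
  rw [this]
  exact (RingHom.surjectiveOnStalks_of_surjective Ideal.Quotient.mk_surjective).comp hψs

end Groth.Agent.FlatOverBC
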