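import Groth.Agent.FlatOverBC.CMScheme
import Groth.Agent.FlatOverBC.GorAlg
import Groth.Agent.AlgSpLoc.GorensteinChart

/-!
Gorenstein fibres of a morphism under base change.
-/

set_option autoImplicit false
set_option linter.style.haveILetI false

namespace Groth.Agent.FlatOverBC

open CategoryTheory Limits AlgebraicGeometry IsLocalRing TensorProduct

universe u

variable {X S X' S' : Scheme.{u}} {f : X ⟶ S} {f' : X' ⟶ S'} {g' : X' ⟶ X} {g : S' ⟶ S}

/-- Gorenstein-ness of the fibre at a point is insensitive to base change. -/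
theorem isGorenstein_fibreQuot_baseChange_iff (hc : IsPullback g' f' f g) (x' : X')
    (hN : IsLocallyNoetherian (f.fiber (f (g' x'))))
    (hNC : IsNoetherianRing (X'.presheaf.stalk x' ⧸
      (maximalIdeal (S'.presheaf.stalk (f' x'))).map (f'.stalkMap x').hom))
    (hfg : LocallyOfFiniteType f ∨ LocallyOfFiniteType g) :
    LocCoh.IsGorensteinLocalRing (X'.presheaf.stalk x' ⧸
        (maximalIdeal (S'.presheaf.stalk (f' x'))).map (f'.stalkMap x').hom) ↔
      LocCoh.IsGorensteinLocalRing (X.presheaf.stalk (g' x') ⧸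
        (maximalIdeal (S.presheaf.stalk (f (g' x')))).map (f.stalkMap (g' x')).hom) := by
  have h2 : g (f' x') = f (g' x') := by
    rw [← Scheme.Hom.comp_apply, ← hc.w, Scheme.Hom.comp_apply]
  obtain ⟨ψ, hψ, hψs, hA, hB⟩ := exists_tensor_localization hc x' (f (g' x')) rfl h2
  let O := S.presheaf.stalk (f (g' x'))
  let A := X.presheaf.stalk (g' x')
  let B := S'.presheaf.stalk (f' x')
  let φA : O ⟶ A :=
    (S.presheaf.stalkCongr (.of_eq (rfl : f (g' x') = _))).inv ≫ f.stalkMap (g' x')
  let φB : O ⟶ B := (S.presheaf.stalkCongr (.of_eq h2)).inv ≫ g.stalkMap (f' x')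
  letI : Algebra O A := φA.hom.toAlgebra
  letI : Algebra O B := φB.hom.toAlgebra
  haveI : IsLocalHom (algebraMap O A) := inferInstanceAs (IsLocalHom φA.hom)
  haveI : IsLocalHom (algebraMap O B) := inferInstanceAs (IsLocalHom φB.hom)
  have hI : (maximalIdeal O).map (algebraMap O A) =
      (maximalIdeal O).map (f.stalkMap (g' x')).hom := by
    show (maximalIdeal O).map φA.hom = _
    rw [show φA = f.stalkMap (g' x') from stalkCongr_inv_eq _]
  have hNA : IsNoetherianRing (A ⧸ (maximalIdeal O).map (algebraMap O A)) := by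
    rw [hI]
    exact FlatLocalDepth.isNoetherianRing_fibre_quotient f (g' x') hN
  have hfg' : Algebra.EssFiniteType (ResidueField O) (ResidueField A) ∨
      Algebra.EssFiniteType (ResidueField O) (ResidueField B) := by
    rcases hfg with hf | hg
    · haveI : Algebra.EssFiniteType O A :=
        RingHom.EssFiniteType.respectsIso.2 (f.stalkMap (g' x')).hom
          (S.presheaf.stalkCongr (.of_eq (rfl : f (g' x') = _))).commRingCatIsoToRingEquiv.symm
          (LocallyOfFiniteType.stalkMap f (g' x'))
      exact Or.inl (essFiniteType_residueField O A)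
    · haveI : Algebra.EssFiniteType O B :=
        RingHom.EssFiniteType.respectsIso.2 (g.stalkMap (f' x')).hom
          (S.presheaf.stalkCongr (.of_eq h2)).commRingCatIsoToRingEquiv.symm
          (LocallyOfFiniteType.stalkMap g (f' x'))
      exact Or.inr (essFiniteType_residueField O B)
  rw [isGorensteinLocalRing_fibre_iff ψ hψ hψs (g'.stalkMap x').hom (f'.stalkMap x').hom
    hA hB hNA hNC hfg']
  have hiff : ∀ I J : Ideal A, I = J → (LocCoh.IsGorensteinLocalRing (A ⧸ I) ↔
      LocCoh.IsGorensteinLocalRing (A ⧸ J)) := fun I J h => by subst h; rfl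
  exact hiff _ _ hI

theorem isGorensteinAt_baseChange_iff_of_flat (hc : IsPullback g' f' f g) (x' : X')
    (hN : IsLocallyNoetherian (f.fiber (f (g' x'))))
    (hNC : IsNoetherianRing (X'.presheaf.stalk x' ⧸
      (maximalIdeal (S'.presheaf.stalk (f' x'))).map (f'.stalkMap x').hom))
    (hfg : LocallyOfFiniteType f ∨ LocallyOfFiniteType g)
    (hflat : (f.stalkMap (g' x')).hom.Flat) :
    Dual3.IsGorensteinAt f' x' ↔ Dual3.IsGorensteinAt f (g' x') := by
  rw [AlgSpLoc.isGorensteinAt_iff, AlgSpLoc.isGorensteinAt_iff,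
    isGorenstein_fibreQuot_baseChange_iff hc x' hN hNC hfg]
  simp only [hflat, GrpSch.flat_stalkMap_of_isPullback hc x' hflat]

/-- The three comparisons along a base change locally of finite type. -/
theorem isGorensteinAt_baseChange [LocallyOfFiniteType g] (hc : IsPullback g' f' f g) (x' : X')
    (hN : IsLocallyNoetherian (f.fiber (f (g' x')))) :
    (Dual3.IsGorensteinAt f (g' x') → Dual3.IsGorensteinAt f' x') ∧
    ((f.stalkMap (g' x')).hom.Flat → Dual3.IsGorensteinAt f' x' →
      Dual3.IsGorensteinAt f (g' x')) ∧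
    ((g.stalkMap (f' x')).hom.Flat → Dual3.IsGorensteinAt f' x' →
      Dual3.IsGorensteinAt f (g' x')) := by
  have hNC := isNoetherianRing_fibreQuot_baseChange hc x' hN
  have key := isGorensteinAt_baseChange_iff_of_flat hc x' hN hNC (Or.inr ‹_›)
  refine ⟨fun h => (key h.1).2 h, fun hf h => (key hf).1 h, fun hg h => ?_⟩
  have hg' : (g'.stalkMap x').hom.Flat := GrpSch.flat_stalkMap_of_isPullback hc.flip x' hg
  have hcomp : ((g' ≫ f).stalkMap x').hom.Flat := by
    rw [hc.w, Scheme.Hom.stalkMap_comp]
    exact hg.comp h.1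
  exact (key (GrpSch.flat_stalkMap_of_comp g' f x' hg' hcomp)).1 h

/-- The Gorenstein locus of a flat morphism locally of finite type commutes with base change. -/
theorem isGorensteinAt_baseChange_iff [Flat f] [LocallyOfFiniteType f] (hc : IsPullback g' f' f g)
    (x' : X') : Dual3.IsGorensteinAt f' x' ↔ Dual3.IsGorensteinAt f (g' x') := by
  haveI : LocallyOfFiniteType f' := MorphismProperty.of_isPullback hc ‹_›
  exact isGorensteinAt_baseChange_iff_of_flat hc x' (isLocallyNoetherian_fiber f _)
    (FlatLocalDepth.isNoetherianRing_fibre_quotient f' x' (isLocallyNoetherian_fiber f' _))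
    (Or.inl ‹_›) (Flat.stalkMap f _)

end Groth.Agent.FlatOverBC
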