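import Mathlib
import Groth.Agent.FlatOverBC.Algebra
import Groth.Agent.FlatSlice.Seq

/-!
Reductions modulo the maximal ideal of the base under base change.
-/

namespace Groth.Agent.FlatOverBC

open TensorProduct

universe u

/-- A localisation of a base change of the reduction modulo the maximal ideal is flat. -/
theorem flat_quotientMap_of_tensor {O A B C : Type u} [CommRing O] [CommRing A] [CommRing B]
    [CommRing C] [IsLocalRing O] [IsLocalRing B] [Algebra O A] [Algebra O B]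
    [IsLocalHom (algebraMap O B)] (ψ : A ⊗[O] B →+* C) (hψ : ψ.Flat) (fA : A →+* C) (fB : B →+* C)
    (hA : ∀ a, ψ (a ⊗ₜ 1) = fA a) (hB : ∀ b, ψ (1 ⊗ₜ b) = fB b)
    (hle : (IsLocalRing.maximalIdeal O).map (algebraMap O A) ≤
      ((IsLocalRing.maximalIdeal B).map fB).comap fA) :
    (Ideal.quotientMap ((IsLocalRing.maximalIdeal B).map fB) fA hle).Flat := by
  classical
  let κ := O ⧸ IsLocalRing.maximalIdeal O
  let K := B ⧸ IsLocalRing.maximalIdeal B
  let T := A ⊗[O] B
  let right : B →ₐ[O] T := Algebra.TensorProduct.includeRight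
  let J : Ideal T := (IsLocalRing.maximalIdeal B).map right.toRingHom
  let I : Ideal A := (IsLocalRing.maximalIdeal O).map (algebraMap O A)
  have hJ : J.map ψ = (IsLocalRing.maximalIdeal B).map fB := by
    rw [Ideal.map_map]
    congr 1
    ext b
    exact hB b
  letI : Algebra T C := ψ.toAlgebra
  haveI : Module.Flat T C := hψ
  let J' := (IsLocalRing.maximalIdeal B).map fB
  letI : Algebra (T ⧸ J) (C ⧸ J') :=
    (Ideal.quotientMap J' ψ (Ideal.map_le_iff_le_comap.1 hJ.le)).toAlgebra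
  haveI : IsScalarTower T (T ⧸ J) (C ⧸ J') := ⟨fun t z w => by
    obtain ⟨z, rfl⟩ := Ideal.Quotient.mk_surjective (I := J) z
    obtain ⟨w, rfl⟩ := Ideal.Quotient.mk_surjective (I := J') w
    show Ideal.Quotient.mk J' (ψ (t * z) * w) = Ideal.Quotient.mk J' (ψ t * (ψ z * w))
    rw [map_mul ψ, mul_assoc]⟩
  haveI : Module.Flat (T ⧸ J) (C ⧸ J') :=
    Module.Flat.of_linearEquiv (((TensorProduct.quotTensorEquivQuotSMul C J) ≪≫ₗ
      Submodule.quotEquivOfEq _ (J'.restrictScalars T) (by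
        rw [Ideal.smul_top_eq_map]; exact congrArg _ hJ) ≪≫ₗ
      Submodule.Quotient.restrictScalarsEquiv T J').extendScalarsOfSurjective
        Ideal.Quotient.mk_surjective).symm
  -- the quotient of the tensor product is free over the reduction
  have hkill : IsLocalRing.maximalIdeal O ≤ (IsLocalRing.maximalIdeal B).comap (algebraMap O B) :=
    fun r hr hu => hr ((isUnit_map_iff (algebraMap O B) r).1 hu)
  letI : Algebra κ K := (Ideal.quotientMap _ (algebraMap O B) hkill).toAlgebra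
  haveI : IsScalarTower O κ K := IsScalarTower.of_algebraMap_eq fun _ => rfl
  letI : Field κ := Ideal.Quotient.field _
  let bK := Module.Basis.ofVectorSpace κ K
  let e₁ : A ⊗[O] K ≃ₗ[A] (Module.Basis.ofVectorSpaceIndex κ K →₀ A ⊗[O] κ) :=
    AlgebraTensorModule.congr (.refl A A) (bK.repr.restrictScalars O) ≪≫ₗ
      TensorProduct.finsuppRight O A A κ _
  let e₂ : A ⊗[O] κ ≃ₗ[A] A ⧸ I :=
    (Algebra.TensorProduct.quotIdealMapEquivTensorQuot A (IsLocalRing.maximalIdeal O)).symm.toLinearEquiv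
  let eT : ((A ⊗[O] B) ⧸ J) ≃ₗ[A] (Module.Basis.ofVectorSpaceIndex κ K →₀ A ⧸ I) :=
    (Algebra.TensorProduct.tensorQuotientEquiv (R := O) A B A (IsLocalRing.maximalIdeal B)).symm.toLinearEquiv ≪≫ₗ
      e₁ ≪≫ₗ Finsupp.mapRange.linearEquiv e₂
  have hIJ : I ≤ J.comap (algebraMap A T) := Ideal.map_le_iff_le_comap.2 fun r hr => by
    show (algebraMap O A r) ⊗ₜ[O] (1 : B) ∈ J
    rw [Algebra.algebraMap_eq_smul_one, TensorProduct.smul_tmul, ← Algebra.algebraMap_eq_smul_one]
    exact Ideal.mem_map_of_mem _ (hkill hr)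
  letI : Algebra (A ⧸ I) (T ⧸ J) := (Ideal.quotientMap J (algebraMap A T) hIJ).toAlgebra
  haveI : IsScalarTower A (A ⧸ I) (T ⧸ J) := IsScalarTower.of_algebraMap_eq fun _ => rfl
  haveI : Module.Flat (A ⧸ I) (T ⧸ J) :=
    Module.Flat.of_linearEquiv (eT.extendScalarsOfSurjective Ideal.Quotient.mk_surjective)
  have hcomp : Ideal.quotientMap J' fA hle =
      (algebraMap (T ⧸ J) (C ⧸ J')).comp (algebraMap (A ⧸ I) (T ⧸ J)) := by
    refine Ideal.Quotient.ringHom_ext (RingHom.ext fun a => ?_)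
    exact (congrArg (Ideal.Quotient.mk J') (hA a)).symm
  rw [hcomp]
  exact RingHom.Flat.comp (RingHom.flat_algebraMap_iff.2 ‹_›) (RingHom.flat_algebraMap_iff.2 ‹_›)

/-- Descent of flatness of a reduction along a base change. -/
theorem flat_quot_of_baseChange {R P R' P' M : Type u} [CommRing R] [CommRing P] [CommRing R']
    [CommRing P'] [IsLocalRing P] [IsLocalRing P']
    [Algebra R P] [Algebra R R'] [Algebra R' P'] [Algebra P P'] [IsLocalHom (algebraMap P P')]
    (hcomm : ∀ r, algebraMap P P' (algebraMap R P r) = algebraMap R' P' (algebraMap R R' r))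
    (I : Ideal R) (I' : Ideal R') (hI : I ≤ I'.comap (algebraMap R R'))
    (hR : (Ideal.quotientMap I' (algebraMap R R') hI).Flat)
    (hIP : I.map (algebraMap R P) ≤ (I'.map (algebraMap R' P')).comap (algebraMap P P'))
    (hP : (Ideal.quotientMap (I'.map (algebraMap R' P')) (algebraMap P P') hIP).Flat)
    (hI' : I'.map (algebraMap R' P') ≠ ⊤)
    [AddCommGroup M] [Module P M] [Module R M] [IsScalarTower R P M]
    [Module.Flat R' (P' ⊗[P] M)] :
    Module.Flat (R ⧸ I) (M ⧸ I • (⊤ : Submodule R M)) := by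
  let J := I.map (algebraMap R P)
  let J' := I'.map (algebraMap R' P')
  let R₀ := R ⧸ I
  let P₀ := P ⧸ J
  let R₀' := R' ⧸ I'
  let P₀' := P' ⧸ J'
  letI : Algebra R₀ R₀' := (Ideal.quotientMap I' (algebraMap R R') hI).toAlgebra
  letI : Algebra R₀ P₀ := (Ideal.quotientMap J (algebraMap R P) Ideal.le_comap_map).toAlgebra
  letI : Algebra P₀ P₀' := (Ideal.quotientMap J' (algebraMap P P') hIP).toAlgebra
  letI : Algebra R₀' P₀' := (Ideal.quotientMap J' (algebraMap R' P') Ideal.le_comap_map).toAlgebra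
  letI : Algebra R₀ P₀' := ((algebraMap P₀ P₀').comp (algebraMap R₀ P₀)).toAlgebra
  haveI : IsScalarTower R₀ P₀ P₀' := IsScalarTower.of_algebraMap_eq fun _ => rfl
  haveI : IsScalarTower R₀ R₀' P₀' := IsScalarTower.of_algebraMap_eq fun r => by
    obtain ⟨r, rfl⟩ := Ideal.Quotient.mk_surjective r
    exact congrArg (Ideal.Quotient.mk J') (hcomm r)
  haveI : IsScalarTower P P₀ P₀' := IsScalarTower.of_algebraMap_eq fun _ => rfl
  haveI : IsScalarTower R R₀ P₀ := IsScalarTower.of_algebraMap_eq fun _ => rfl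
  haveI : IsScalarTower R' R₀' P₀' := IsScalarTower.of_algebraMap_eq fun _ => rfl
  haveI : Module.Flat R₀ R₀' := hR
  haveI : Module.Flat P₀ P₀' := hP
  haveI hnt' : Nontrivial P₀' := Ideal.Quotient.nontrivial_iff.2 hI'
  haveI hnt : Nontrivial P₀ := (algebraMap P₀ P₀').domain_nontrivial
  haveI : IsLocalRing P₀ := IsLocalRing.of_surjective' (Ideal.Quotient.mk J) Ideal.Quotient.mk_surjective
  haveI : IsLocalRing P₀' :=
    IsLocalRing.of_surjective' (Ideal.Quotient.mk J') Ideal.Quotient.mk_surjective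
  haveI : IsLocalHom (Ideal.Quotient.mk J') :=
    IsLocalHom.of_surjective _ Ideal.Quotient.mk_surjective
  haveI : IsLocalHom (algebraMap P₀ P₀') := ⟨fun a ha => by
    obtain ⟨a, rfl⟩ := Ideal.Quotient.mk_surjective a
    exact ((isUnit_map_iff (algebraMap P P') a).1
      ((isUnit_map_iff (Ideal.Quotient.mk J') _).1 ha)).map _⟩
  haveI : Module.FaithfullyFlat P₀ P₀' := Module.FaithfullyFlat.of_flat_of_isLocalHom
  -- the reductions
  let M' := P' ⊗[P] M
  let Q := P₀ ⊗[P] M
  let e' : R₀' ⊗[R'] M' ≃ₗ[R'] P₀' ⊗[P'] M' :=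
    TensorProduct.quotTensorEquivQuotSMul M' I' ≪≫ₗ
      Submodule.quotEquivOfEq _ ((J' • (⊤ : Submodule P' M')).restrictScalars R')
        (SetLike.ext fun z => (FlatSlice.mem_map_smul_top_iff I' z).symm) ≪≫ₗ
      Submodule.Quotient.restrictScalarsEquiv R' _ ≪≫ₗ
      (TensorProduct.quotTensorEquivQuotSMul M' J').symm.restrictScalars R'
  let e'' : P₀' ⊗[P'] M' ≃ₗ[P₀'] P₀' ⊗[P₀] Q :=
    AlgebraTensorModule.cancelBaseChange P P' P₀' P₀' M ≪≫ₗ
      (AlgebraTensorModule.cancelBaseChange P P₀ P₀' P₀' M).symm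
  haveI : Module.Flat R₀' (P₀' ⊗[P₀] Q) :=
    Module.Flat.of_linearEquiv ((e' ≪≫ₗ e''.restrictScalars R').extendScalarsOfSurjective
      Ideal.Quotient.mk_surjective).symm
  haveI : Module.Flat R₀ (P₀' ⊗[P₀] Q) := Module.Flat.trans R₀ R₀' (P₀' ⊗[P₀] Q)
  haveI : Module.Flat R₀ Q := flat_of_flat_baseChange R₀ P₀ P₀' Q
  let e : Q ≃ₗ[R] M ⧸ I • (⊤ : Submodule R M) :=
    ((TensorProduct.quotTensorEquivQuotSMul M J).restrictScalars R) ≪≫ₗ
      (Submodule.Quotient.restrictScalarsEquiv R _).symm ≪≫ₗ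
      Submodule.quotEquivOfEq _ _ (SetLike.ext fun z => FlatSlice.mem_map_smul_top_iff I z)
  exact Module.Flat.of_linearEquiv (e.extendScalarsOfSurjective Ideal.Quotient.mk_surjective).symm

end Groth.Agent.FlatOverBC
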