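import Groth.Agent.FlatOverBC.Fibre
import Groth.Agent.FlatOverBC.Scheme
import Groth.Agent.FlatOverBC.Quot

/-!
Base change of the flat locus over an intermediate scheme.
-/

set_option autoImplicit false
set_option linter.style.haveILetI false

noncomputable section

namespace Groth.Agent.FlatOverBC

open CategoryTheory Limits AlgebraicGeometry TensorProduct

universe u

/-- Reductions of local rings of a base change are flat over those of the original. -/
theorem flat_quotientMap_stalk {X S X' S' : Scheme.{u}} {f : X ⟶ S} {f' : X' ⟶ S'} {g' : X' ⟶ X}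
    {g : S' ⟶ S} (hc : IsPullback g' f' f g) (x' : X') (z : X) (hz : g' x' = z) :
    ∃ hle, (Ideal.quotientMap
      ((IsLocalRing.maximalIdeal (S'.presheaf.stalk (f' x'))).map (f'.stalkMap x').hom)
      ((X.presheaf.stalkCongr (.of_eq hz)).inv ≫ g'.stalkMap x').hom
      (I := (IsLocalRing.maximalIdeal (S.presheaf.stalk (f z))).map (f.stalkMap z).hom) hle).Flat := by
  subst hz
  have h2 : g (f' x') = f (g' x') := by
    rw [← Scheme.Hom.comp_apply, ← hc.w, Scheme.Hom.comp_apply]
  obtain ⟨ψ, hψ, hA, hB⟩ := exists_tensor_flat hc x' (f (g' x')) rfl h2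
  let O := S.presheaf.stalk (f (g' x'))
  let φA := (S.presheaf.stalkCongr (.of_eq (rfl : f (g' x') = _))).inv ≫ f.stalkMap (g' x')
  let φB := (S.presheaf.stalkCongr (.of_eq h2)).inv ≫ g.stalkMap (f' x')
  letI : Algebra O (X.presheaf.stalk (g' x')) := φA.hom.toAlgebra
  letI : Algebra O (S'.presheaf.stalk (f' x')) := φB.hom.toAlgebra
  have hφA : φA = f.stalkMap (g' x') := by simp [φA]
  have hid : (X.presheaf.stalkCongr (.of_eq (rfl : g' x' = g' x'))).inv ≫ g'.stalkMap x' = g'.stalkMap x' := by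
    simp
  haveI : IsLocalHom (algebraMap O (S'.presheaf.stalk (f' x'))) := by
    show IsLocalHom φB.hom
    rw [CommRingCat.hom_comp]
    infer_instance
  have hI : (IsLocalRing.maximalIdeal O).map (algebraMap O (X.presheaf.stalk (g' x'))) =
      (IsLocalRing.maximalIdeal O).map (f.stalkMap (g' x')).hom := by
    show Ideal.map φA.hom _ = _
    rw [hφA]
  have hle : (IsLocalRing.maximalIdeal O).map (algebraMap O (X.presheaf.stalk (g' x'))) ≤
      ((IsLocalRing.maximalIdeal (S'.presheaf.stalk (f' x'))).map (f'.stalkMap x').hom).comap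
        (g'.stalkMap x').hom := Ideal.map_le_iff_le_comap.2 fun a ha => by
    have e : (g'.stalkMap x').hom (algebraMap O _ a) =
        (f'.stalkMap x').hom (algebraMap O (S'.presheaf.stalk (f' x')) a) := by
      rw [← hA, ← hB]
      congr 1
      rw [Algebra.algebraMap_eq_smul_one, TensorProduct.smul_tmul, ← Algebra.algebraMap_eq_smul_one]
    rw [Ideal.mem_comap, Ideal.mem_comap, e]
    exact Ideal.mem_map_of_mem _ fun hu => ha ((isUnit_map_iff _ a).1 hu)
  have key := flat_quotientMap_of_tensor ψ hψ (g'.stalkMap x').hom (f'.stalkMap x').hom hA hB hle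
  have gen : ∀ (I : Ideal (X.presheaf.stalk (g' x'))) (φ : X.presheaf.stalk (g' x') ⟶ X'.presheaf.stalk x'),
      I = (IsLocalRing.maximalIdeal O).map (algebraMap O (X.presheaf.stalk (g' x'))) →
      φ = g'.stalkMap x' → ∃ hle, (Ideal.quotientMap
        ((IsLocalRing.maximalIdeal (S'.presheaf.stalk (f' x'))).map (f'.stalkMap x').hom)
        φ.hom (I := I) hle).Flat := by
    rintro _ _ rfl rfl
    exact ⟨hle, key⟩
  exact gen _ _ hI.symm hid

variable {X Y S X' Y' S' : Scheme.{u}}

/-- Flatness over the intermediate scheme descends along base change. -/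
theorem isFlatOverAt_of_relative_baseChange (f : X ⟶ Y) (g : Y ⟶ S)
    [LocallyOfFinitePresentation (f ≫ g)] [LocallyOfFiniteType g]
    (F : X.Modules) [F.IsQuasicoherent] (hF : CohB1.IsFP F)
    {h : S' ⟶ S} {gY : Y' ⟶ Y} {g' : Y' ⟶ S'} (hY : IsPullback gY g' g h)
    {gX : X' ⟶ X} {f' : X' ⟶ Y'} (hX : IsPullback gX (f' ≫ g') (f ≫ g) h) (w : gX ≫ f = f' ≫ gY)
    (x' : X') (hS : FlatMod.IsFlatOverAt (f ≫ g) F (gX x'))
    (h' : FlatMod.IsFlatOverAt f' ((Scheme.Modules.pullback gX).obj F) x') :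
    FlatMod.IsFlatOverAt f F (gX x') := by
  let x := gX x'
  let y' := f' x'
  refine isFlatOverAt_of_fibre f g F hF x hS ?_
  have hy : gY y' = f x := by
    rw [← Scheme.Hom.comp_apply, ← w, Scheme.Hom.comp_apply]
  obtain ⟨hle₁, hR⟩ := flat_quotientMap_stalk hY y' (f x) hy
  obtain ⟨hle₂, hP⟩ := flat_quotientMap_stalk hX x' x rfl
  let φRP := f.stalkMap x
  let φR := (Y.presheaf.stalkCongr (.of_eq hy)).inv ≫ gY.stalkMap y'
  let φRP' := f'.stalkMap x'
  let φP := (X.presheaf.stalkCongr (.of_eq (rfl : gX x' = x))).inv ≫ gX.stalkMap x'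
  have hφP : φP = gX.stalkMap x' := by simp [φP, x]
  have hsq : φRP ≫ φP = φR ≫ φRP' := by
    apply Spec.map_injective
    rw [← cancel_mono (Y.fromSpecStalk _)]
    simp [φRP, φP, φR, φRP', x, y', w]
  letI : Algebra (Y.presheaf.stalk (f x)) (X.presheaf.stalk x) := φRP.hom.toAlgebra
  letI : Algebra (Y.presheaf.stalk (f x)) (Y'.presheaf.stalk y') := φR.hom.toAlgebra
  letI : Algebra (Y'.presheaf.stalk y') (X'.presheaf.stalk x') := φRP'.hom.toAlgebra
  letI : Algebra (X.presheaf.stalk x) (X'.presheaf.stalk x') := φP.hom.toAlgebra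
  haveI : IsLocalHom (algebraMap (X.presheaf.stalk x) (X'.presheaf.stalk x')) := by
    show IsLocalHom φP.hom
    rw [hφP]
    infer_instance
  letI := FlatMod.moduleStalkOver f F x
  haveI : IsScalarTower (Y.presheaf.stalk (f x)) (X.presheaf.stalk x) (F.presheaf.stalk x) :=
    .of_algebraMap_smul fun _ _ => rfl
  let I := (IsLocalRing.maximalIdeal (S.presheaf.stalk (g (f x)))).map (g.stalkMap (f x)).hom
  let I' := (IsLocalRing.maximalIdeal (S'.presheaf.stalk (g' y'))).map (g'.stalkMap y').hom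
  have eI : I.map φRP.hom =
      (IsLocalRing.maximalIdeal (S.presheaf.stalk ((f ≫ g) x))).map ((f ≫ g).stalkMap x).hom := by
    rw [Scheme.Hom.stalkMap_comp]
    exact Ideal.map_map _ _
  have eI' : I'.map φRP'.hom =
      (IsLocalRing.maximalIdeal (S'.presheaf.stalk ((f' ≫ g') x'))).map ((f' ≫ g').stalkMap x').hom := by
    rw [Scheme.Hom.stalkMap_comp]
    exact Ideal.map_map _ _
  have hne : I'.map φRP'.hom ≠ ⊤ := fun htop => by
    have hle : (IsLocalRing.maximalIdeal (S'.presheaf.stalk ((f' ≫ g') x'))).map ((f' ≫ g').stalkMap x').hom ≤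
        IsLocalRing.maximalIdeal (X'.presheaf.stalk x') :=
      Ideal.map_le_iff_le_comap.2 fun a ha hu => ha ((isUnit_map_iff _ a).1 hu)
    rw [← eI', htop] at hle
    exact (IsLocalRing.maximalIdeal.isMaximal _).ne_top (top_le_iff.1 hle)
  let e : ((Scheme.Modules.pullback gX).obj F).presheaf.stalk x' ≃ₗ[X'.presheaf.stalk x']
      (ModuleCat.extendScalars (gX.stalkMap x').hom).obj
        (ModuleCat.of _ (F.presheaf.stalk (gX x'))) :=
    ((DCohBridge.stalkPullIso gX x').app F).toLinearEquiv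
  have hflat : Module.Flat (Y'.presheaf.stalk y')
      (X'.presheaf.stalk x' ⊗[X.presheaf.stalk x] F.presheaf.stalk x) := by
    have gen : ∀ φ : X.presheaf.stalk x ⟶ X'.presheaf.stalk x', φ = gX.stalkMap x' →
        letI : Algebra (X.presheaf.stalk x) (X'.presheaf.stalk x') := φ.hom.toAlgebra
        Module.Flat (Y'.presheaf.stalk y')
          (X'.presheaf.stalk x' ⊗[X.presheaf.stalk x] F.presheaf.stalk x) := by
      rintro _ rfl
      letI : Algebra (X.presheaf.stalk x) (X'.presheaf.stalk x') := (gX.stalkMap x').hom.toAlgebra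
      let P := (Scheme.Modules.pullback gX).obj F
      letI := FlatMod.moduleStalkOver f' P x'
      haveI : Module.Flat (Y'.presheaf.stalk y') (P.presheaf.stalk x') := h'
      let e' : P.presheaf.stalk x' ≃ₗ[X'.presheaf.stalk x']
          X'.presheaf.stalk x' ⊗[X.presheaf.stalk x] F.presheaf.stalk x := e
      exact Module.Flat.of_linearEquiv
        ({ e'.toAddEquiv with map_smul' := fun r m => e'.map_smul ((f'.stalkMap x').hom r) m } :
          P.presheaf.stalk x' ≃ₗ[Y'.presheaf.stalk y']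
            X'.presheaf.stalk x' ⊗[X.presheaf.stalk x] F.presheaf.stalk x).symm
    exact gen φP hφP
  refine flat_quot_of_baseChange (R := Y.presheaf.stalk (f x)) (P := X.presheaf.stalk x)
    (R' := Y'.presheaf.stalk y') (P' := X'.presheaf.stalk x') (M := F.presheaf.stalk x)
    (fun r => congr($(hsq).hom r)) I I' hle₁ hR ?_ ?_ hne
  · show I.map φRP.hom ≤ (I'.map φRP'.hom).comap φP.hom
    rw [eI, eI']
    exact hle₂
  · have gen : ∀ (A : Ideal (X.presheaf.stalk x)) (B : Ideal (X'.presheaf.stalk x'))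
        (hA : A = (IsLocalRing.maximalIdeal (S.presheaf.stalk ((f ≫ g) x))).map ((f ≫ g).stalkMap x).hom)
        (hB : B = (IsLocalRing.maximalIdeal (S'.presheaf.stalk ((f' ≫ g') x'))).map ((f' ≫ g').stalkMap x').hom)
        (hAB : A ≤ B.comap φP.hom), (Ideal.quotientMap B φP.hom hAB).Flat := by
      rintro _ _ rfl rfl _
      exact hP
    exact gen _ _ eI eI' _

end Groth.Agent.FlatOverBC
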